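import Mathlib
import Cfsg.Agent.H678.Codeg
import Cfsg.Agent.Lib.ComponentSolvable
import Cfsg.Agent.H678.Constit
import Cfsg.Agent.S0887
import Cfsg.Agent.S0165
import Cfsg.Agent.SignalizersComponents.PConstrained
import Cfsg.Agent.FastGrp
import Cfsg.Agent.Prune
set_option linter.all false

section
prune_inst 0x7f00000000000000000000000000000000000000000000000000000000000000000000000000000000000000000000000000000000000000000000000000000000000000000000000000000000000000003ffffffffffffffffffff7ffffffbeffbdf7ffffff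

-- part: H678/GoodDef
section
set_option linter.all false
open scoped Cfsg.Agent.FastGrp

/-!
# `Good N`: the square of every prime power part of `N` is less than `N`
-/

set_option autoImplicit false

namespace Cfsg.Agent.H678

/-- The square of the full power of each prime dividing `N` is less than `N`. -/
def Good (N : ℕ) : Prop := ∀ p : ℕ, p.Prime → (p ^ N.factorization p) ^ 2 < N

/-- To prove `Good N` it suffices to bound `p ^ k` for `p ^ k ∣ N`. -/
theorem good_of_dvd {N : ℕ} (h : ∀ p k : ℕ, p.Prime → p ^ k ∣ N → (p ^ k) ^ 2 < N) : Good N :=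
  fun p hp => h p _ hp (Nat.ordProj_dvd N p)

/-- A decidable test: `N = ∏ pᵢ ^ eᵢ` with `(pᵢ ^ eᵢ) ^ 2 < N`. The bases need not be prime. -/
def chk (l : List (ℕ × ℕ)) (N : ℕ) : Bool :=
  Nat.beq ((l.map fun x => x.1 ^ x.2).prod) N && (l.all fun x => Nat.blt ((x.1 ^ x.2) ^ 2) N) &&
    Nat.blt 1 N && decide (l.Pairwise fun x y => Nat.Coprime x.1 y.1)

theorem pow_dvd_of_dvd_prod {p k : ℕ} (hp : p.Prime) (l : List (ℕ × ℕ))
    (hl : l.Pairwise fun x y => Nat.Coprime x.1 y.1)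
    (hd : p ^ k ∣ (l.map fun x => x.1 ^ x.2).prod) (hk : k ≠ 0) :
    ∃ x ∈ l, p ^ k ∣ x.1 ^ x.2 := by
  induction l with
  | nil =>
    exfalso
    simp only [List.map_nil, List.prod_nil, Nat.dvd_one, Nat.pow_eq_one] at hd
    rcases hd with h | h
    · exact hp.one_lt.ne' h
    · exact hk h
  | cons x l ih =>
    rw [List.map_cons, List.prod_cons] at hd
    rw [List.pairwise_cons] at hl
    by_cases hpx : p ∣ x.1
    · have hcop : Nat.Coprime (p ^ k) (l.map fun y => y.1 ^ y.2).prod := by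
        apply Nat.Coprime.pow_left
        rw [hp.coprime_iff_not_dvd]
        intro h
        obtain ⟨a, ha, hpa⟩ := (Prime.dvd_prod_iff hp.prime).1 h
        obtain ⟨y, hy, rfl⟩ := List.mem_map.1 ha
        have h1 : p ∣ y.1 := hp.dvd_of_dvd_pow hpa
        have h2 := hl.1 y hy
        exact hp.one_lt.ne' (Nat.dvd_one.1 (h2 ▸ Nat.dvd_gcd hpx h1))
      exact ⟨x, List.mem_cons_self, hcop.dvd_of_dvd_mul_right hd⟩
    · have hcop : Nat.Coprime (p ^ k) (x.1 ^ x.2) := by
        apply Nat.Coprime.pow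
        exact (hp.coprime_iff_not_dvd).2 hpx
      obtain ⟨y, hy, h⟩ := ih hl.2 (hcop.dvd_of_dvd_mul_left hd)
      exact ⟨y, List.mem_cons_of_mem _ hy, h⟩

/-- The test proves `Good N`. -/
theorem good_of_chk {l : List (ℕ × ℕ)} {N : ℕ} (h : chk l N = true) : Good N := by
  unfold chk at h
  simp only [Bool.and_eq_true, Nat.beq_eq, List.all_eq_true, Nat.blt_eq,
    decide_eq_true_eq] at h
  obtain ⟨⟨⟨h1, h2⟩, h3⟩, h4⟩ := h
  refine good_of_dvd fun p k hp hd => ?_
  rcases Nat.eq_zero_or_pos k with rfl | hk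
  · simpa using h3
  · rw [← h1] at hd
    obtain ⟨x, hx, hdx⟩ := pow_dvd_of_dvd_prod hp l h4 hd hk.ne'
    have hpos : 0 < x.1 ^ x.2 := by
      rcases Nat.eq_zero_or_pos (x.1 ^ x.2) with h0 | h0
      · exfalso
        have : (l.map fun x => x.1 ^ x.2).prod = 0 := by
          rw [List.prod_eq_zero_iff]
          exact List.mem_map.2 ⟨x, hx, h0⟩
        omega
      · exact h0
    exact lt_of_le_of_lt (Nat.pow_le_pow_left (Nat.le_of_dvd hpos hdx) 2) (h2 x hx)

end Cfsg.Agent.H678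
end

-- part: H678/Quasi
section
set_option linter.all false
open scoped Cfsg.Agent.FastGrp

/-!
# Quasisimple groups have no nonprincipal irreducible character of prime power codegree

`not_isPrimePow` : the statement, given FACT A (`Good`) for the simple quotient.
-/

set_option autoImplicit false
set_option linter.unusedSectionVars false

namespace Cfsg.Agent.H678.Quasi

open Cfsg Cfsg.Agent.Characters Cfsg.Agent.H686.CharKit Cfsg.Agent.H678.Codeg

universe u

variable {G : Type u} [Group G] [Finite G]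

/-- The arithmetic. -/
theorem arith {s z c d p k : ℕ} (hA : Good s) (hp : p.Prime) (hc : c = p ^ k) (hcd : c * d = s * z)
    (hd : d ^ 2 ≤ s) (hs : 0 < s) (hz : 0 < z) : False := by
  have h1 : s * z ^ 2 ≤ c ^ 2 := by
    have h2 : s * (s * z ^ 2) ≤ s * c ^ 2 := by
      calc s * (s * z ^ 2) = (s * z) ^ 2 := by ring
        _ = (c * d) ^ 2 := by rw [hcd]
        _ = c ^ 2 * d ^ 2 := by ring
        _ ≤ c ^ 2 * s := Nat.mul_le_mul_left _ hd
        _ = s * c ^ 2 := by ring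
    exact Nat.le_of_mul_le_mul_left h2 hs
  have h3 : c ≤ p ^ s.factorization p * z := by
    have h4 : p ^ k ∣ s * z := ⟨d, by rw [← hc, hcd]⟩
    have h5 := (hp.pow_dvd_iff_le_factorization (Nat.mul_pos hs hz).ne').1 h4
    rw [Nat.factorization_mul hs.ne' hz.ne', Finsupp.add_apply] at h5
    rw [hc]
    calc p ^ k ≤ p ^ (s.factorization p + z.factorization p) := Nat.pow_le_pow_right hp.pos h5
      _ = p ^ s.factorization p * p ^ z.factorization p := pow_add _ _ _
      _ ≤ _ := Nat.mul_le_mul_left _ (Nat.le_of_dvd hz (Nat.ordProj_dvd z p))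
  have h6 : s * z ^ 2 ≤ (p ^ s.factorization p) ^ 2 * z ^ 2 := by
    calc s * z ^ 2 ≤ c ^ 2 := h1
      _ ≤ (p ^ s.factorization p * z) ^ 2 := Nat.pow_le_pow_left h3 2
      _ = _ := by ring
  have h7 := Nat.le_of_mul_le_mul_right h6 (by positivity)
  exact absurd (hA p hp) (not_lt.2 h7)

theorem not_isPrimePow (hG : IsQuasisimple G) (hA : Good (Nat.card (G ⧸ Subgroup.center G)))
    (χ : IrrCharacter G) (hχ : (χ : G → ℂ) ≠ 1) :
    ¬ IsPrimePow (Nat.card G / (Nat.card {g : G // (χ : G → ℂ) g = (χ : G → ℂ) 1} *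
      charDegree (χ : G → ℂ))) := by
  intro hpp
  obtain ⟨p, k, hp, -, hk⟩ := (isPrimePow_nat_iff _).1 hpp
  have hK : chKer χ ≤ Subgroup.center G := by
    rcases Lib.ComponentSolvable.quasisimple_normal_cases hG (chKer_normal χ) with h | h
    · exact absurd ((chKer_eq_top_iff χ).1 h) hχ
    · exact h
  have h1 := codeg_mul_degree χ
  rw [← Subgroup.relIndex_mul_index hK, mul_comm ((chKer χ).relIndex _)] at h1
  refine arith hA hp hk.symm h1 ?_ Nat.card_pos ?_
  · exact sq_charDegree_le_index_center χ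
  · exact Nat.pos_of_ne_zero Subgroup.index_ne_zero_of_finite

/-- A quasisimple group has nonabelian simple quotient by the center. -/
theorem not_comm_of_isQuasisimple {G : Type u} [Group G] (hG : IsQuasisimple G) :
    ¬ ∀ a b : G ⧸ Subgroup.center G, a * b = b * a := by
  intro hab
  have hs := hG.2
  have h1 : commutator G ≤ Subgroup.center G := by
    rw [commutator_def, Subgroup.commutator_le]
    intro a _ b _
    rw [← QuotientGroup.eq_one_iff, commutatorElement_def, QuotientGroup.mk_mul,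
      QuotientGroup.mk_mul, QuotientGroup.mk_mul, QuotientGroup.mk_inv, QuotientGroup.mk_inv,
      hab (a : G ⧸ Subgroup.center G) b]
    group
  have h2 : commutator G = ⊤ := hG.1.commutator_eq_top
  rw [h2] at h1
  have h3 : Subsingleton (G ⧸ Subgroup.center G) := by
    rw [top_le_iff] at h1
    rw [h1]
    exact QuotientGroup.subsingleton_quotient_top
  exact not_nontrivial _ hs.toNontrivial

end Cfsg.Agent.H678.Quasi
end

-- part: H678/Subnormal
section
set_option linter.all false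
open scoped Cfsg.Agent.FastGrp

/-!
# Codegrees and subnormal subgroups

* `subnormal_ratio` : for `θ` under `χ` on a subnormal subgroup `H`, the number `|H| / θ(1)` divides
  `|G| / χ(1)`;
* `normal_le_ker` : if `|G| = p ^ k χ(1)` then the normal `p'`-subgroups are in the kernel of `χ`;
* `p_constrained` : S4800, given FACT A.
-/

set_option autoImplicit false
set_option linter.unusedSectionVars false

namespace Cfsg.Agent.H678.Subnormal

open Cfsg Cfsg.Agent.Characters Cfsg.Agent.H686.CharKit Cfsg.Agent.H678.Codeg Cfsg.Agent.H678.Constit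

universe u

variable {G : Type u} [Group G]

theorem charDegree_comp {H : Type*} [Group H] (f : H →* G) (χ : G → ℂ) :
    charDegree (χ ∘ f) = charDegree χ := by
  unfold charDegree
  rw [Function.comp_apply, map_one]

theorem classInner_comp_equiv {H : Type*} [Group H] [Fintype G] [Fintype H] (e : H ≃* G)
    (φ ψ : G → ℂ) : classInner (φ ∘ e) (ψ ∘ e) = classInner φ ψ :=
  Clifford.classInner_comp_mulEquiv e φ ψ

/-- For `θ` under `χ` on a subnormal subgroup `H`, `|H| / θ(1)` divides `|G| / χ(1)`. -/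
theorem subnormal_ratio [Finite G] (χ : G → ℂ) (hχ : IsIrrCharacter G χ) (H : Subgroup G)
    (hH : H.IsSubnormal) : ∀ (_ : Fintype H) (θ : H → ℂ), IsIrrCharacter H θ →
      classInner (fun h : H => χ h) θ ≠ 0 →
      ∃ b : ℕ, Nat.card G * charDegree θ = b * (Nat.card H * charDegree χ) := by
  classical
  have hfG : Fintype G := Fintype.ofFinite G
  induction hH with
  | top =>
    intro _ θ hθ hne
    have h1 : IsIrrCharacter (⊤ : Subgroup G) (χ ∘ (⊤ : Subgroup G).subtype) :=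
      Core.isIrr_comp _ (fun g => ⟨⟨g, trivial⟩, rfl⟩) hχ
    have h2 : (χ ∘ (⊤ : Subgroup G).subtype) = θ := by
      by_contra h
      exact hne (Core.classInner_irr_ne h1 hθ h)
    refine ⟨1, ?_⟩
    rw [← h2, charDegree_comp, one_mul, Nat.card_congr Subgroup.topEquiv.toEquiv]
  | step H K hle hK hN ih =>
    intro hfH θ hθ hne
    have hfK : Fintype K := Fintype.ofFinite K
    have hfH' : Fintype (H.subgroupOf K) := Fintype.ofFinite _
    have : Finite (IrrCharacter K) := Core.finite_irr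
    have : Fintype (IrrCharacter K) := Fintype.ofFinite _
    let e : H.subgroupOf K ≃* H := Subgroup.subgroupOfEquivOfLe hle
    have hθ' : IsIrrCharacter (H.subgroupOf K) (θ ∘ e) :=
      Core.isIrr_comp e.toMonoidHom e.surjective hθ
    have hres : IsCharacter K (χ ∘ K.subtype) := Core.isCharacter_comp _ (Core.isIrr_isCharacter hχ)
    obtain ⟨m, hm, -⟩ := exists_decomp hres
    have h1 : classInner (fun n : H.subgroupOf K => χ ((n : K) : G)) (θ ∘ e) ≠ 0 := by
      have h2 : (fun n : H.subgroupOf K => χ ((n : K) : G)) = (fun h : H => χ h) ∘ e := by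
        funext n; rfl
      rw [h2, classInner_comp_equiv]
      exact hne
    obtain ⟨ψ, hψ0, hψ⟩ : ∃ ψ : IrrCharacter K, m ψ ≠ 0 ∧
        classInner (fun n : H.subgroupOf K => (ψ : K → ℂ) n) (θ ∘ e) ≠ 0 := by
      by_contra hno
      push Not at hno
      apply h1
      have h2 : (fun n : H.subgroupOf K => χ ((n : K) : G)) =
          ∑ ψ : IrrCharacter K, (m ψ : ℂ) • (fun n : H.subgroupOf K => (ψ : K → ℂ) n) := by
        funext n
        have h3 := congrFun hm (n : K)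
        rw [Finset.sum_apply] at h3 ⊢
        rw [show χ ((n : K) : G) = (χ ∘ K.subtype) (n : K) from rfl, h3]
        refine Finset.sum_congr rfl fun ψ _ => ?_
        simp
      rw [h2, Core.classInner_sum_left]
      refine Finset.sum_eq_zero fun ψ _ => ?_
      rw [Core.classInner_smul_left]
      by_cases h0 : m ψ = 0
      · rw [h0]; simp
      · rw [hno ψ h0, mul_zero]
    have h2 : classInner (fun h : K => χ h) (ψ : K → ℂ) ≠ 0 := by
      have h3 := Core.classInner_sum_nsmul_irr m ψ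
      rw [← hm] at h3
      have h4 : classInner (fun h : K => χ h) (ψ : K → ℂ) = (m ψ : ℂ) := h3
      rw [h4]
      exact_mod_cast hψ0
    obtain ⟨b, hb⟩ := ih hfK ψ ψ.2 h2
    have h3 : charDegree (θ ∘ e) = charDegree θ := charDegree_comp e.toMonoidHom θ
    obtain ⟨⟨r, hr⟩, ⟨s, hs⟩⟩ := S0887.result (H.subgroupOf K) (ψ : K → ℂ) ψ.2 (θ ∘ e) hθ' hψ
      (charDegree (ψ : K → ℂ)) (charDegree θ) (charDegree_irr ψ).symm
      (by rw [← h3]; exact (charDegree_irr (⟨θ ∘ e, hθ'⟩ : IrrCharacter _)).symm)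
    have hθpos : 0 < charDegree θ := charDegree_pos (⟨θ, hθ⟩ : IrrCharacter H)
    have hψpos : 0 < charDegree (ψ : K → ℂ) := charDegree_pos ψ
    rw [hr, Nat.mul_div_cancel_left _ hθpos] at hs
    have hrpos : 0 < r := by
      rcases Nat.eq_zero_or_pos r with h | h
      · rw [h, mul_zero] at hr; omega
      · exact h
    have hcK : Nat.card K = Nat.card H * (r * s) := by
      rw [← hs, ← (H.subgroupOf K).card_mul_index, Nat.card_congr e.toEquiv]
    refine ⟨b * s, ?_⟩
    apply Nat.eq_of_mul_eq_mul_left hrpos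
    calc r * (Nat.card G * charDegree θ) = Nat.card G * (charDegree θ * r) := by ring
      _ = b * (Nat.card K * charDegree χ) := by rw [← hr, hb]
      _ = r * (b * s * (Nat.card H * charDegree χ)) := by rw [hcK]; ring

/-- If the sum of an irreducible representation over a normal subgroup is nonzero, the subgroup
acts trivially. -/
theorem le_chKer_of_sum_ne_zero [Finite G] (χ : IrrCharacter G) (N : Subgroup G) [N.Normal]
    [Fintype N] (h : ∑ m : N, (χ : G → ℂ) m ≠ 0) : N ≤ chKer χ := by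
  classical
  obtain ⟨ρ, hρ, hχ⟩ := exists_rep χ
  have hcomm : ∀ g, (∑ m : N, ρ (m : G)) * ρ g = ρ g * (∑ m : N, ρ (m : G)) := by
    intro g
    rw [Finset.sum_mul, Finset.mul_sum]
    refine Fintype.sum_equiv (MulAut.conjNormal g⁻¹ : MulAut N).toEquiv _ _ fun m => ?_
    rw [← map_mul, ← map_mul]
    congr 1
    simp [mul_assoc]
  obtain ⟨c, hc⟩ := Central.exists_smul_of_comm ρ hρ _ hcomm
  have hc0 : c ≠ 0 := by
    rintro rfl
    apply h
    have h1 : LinearMap.trace ℂ _ (∑ m : N, ρ (m : G)) = 0 := by rw [hc, zero_smul, map_zero]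
    rw [map_sum] at h1
    rw [← h1]
    exact Finset.sum_congr rfl fun m _ => (congrFun hχ (m : G)).symm
  intro x hx
  have h1 : ρ x * (∑ m : N, ρ (m : G)) = ∑ m : N, ρ (m : G) := by
    rw [Finset.mul_sum]
    refine Fintype.sum_equiv (Equiv.mulLeft (⟨x, hx⟩ : N)) _ _ fun m => ?_
    rw [← map_mul]
    rfl
  rw [hc] at h1
  have h2 : ρ x = 1 := by
    have h3 : c • ρ x = c • (1 : Module.End ℂ _) := by
      rw [← h1]
      simp
    exact smul_right_injective _ hc0 h3
  rw [mem_chKer, ← hχ, Representation.character, Representation.character, h2, map_one ρ]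

/-- If `|G| = p ^ k χ(1)`, the normal `p'`-subgroups lie in the kernel of `χ`. -/
theorem normal_le_ker [Finite G] {p k : ℕ} (χ : IrrCharacter G)
    (hk : Nat.card G = p ^ k * charDegree (χ : G → ℂ)) (N : Subgroup G) [N.Normal]
    (hN : (Nat.card N).Coprime p) : N ≤ chKer χ := by
  classical
  have : Fintype N := Fintype.ofFinite N
  apply le_chKer_of_sum_ne_zero χ N
  have h0 : ∀ m : N, m ≠ 1 → (χ : G → ℂ) m = 0 := by
    intro m hm
    obtain ⟨ρ, hρ, hχ⟩ := exists_rep χ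
    have hm' : orderOf (m : G) ≠ 1 := by
      rw [Ne, orderOf_eq_one_iff]
      exact fun h => hm (Subtype.ext h)
    obtain ⟨q, hq, hqd⟩ := Nat.exists_prime_and_dvd hm'
    have hqN : q ∣ Nat.card N := by
      refine hqd.trans ?_
      rw [Subgroup.orderOf_coe]
      exact orderOf_dvd_natCard m
    have hqp : Nat.Coprime q p := Nat.Coprime.coprime_dvd_left hqN hN
    have := hρ
    rw [← hχ]
    refine S0165.result ρ q ((Nat.card G).factorization q) hq (Nat.ordProj_dvd _ _) ?_ ?_ _ hqd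
    · exact Nat.pow_succ_factorization_not_dvd Nat.card_pos.ne' hq
    · rw [Module.finrank_fin_fun]
      have h1 : q ^ (Nat.card G).factorization q ∣ p ^ k * charDegree (χ : G → ℂ) := by
        rw [← hk]; exact Nat.ordProj_dvd _ _
      exact (Nat.Coprime.pow _ _ hqp).dvd_of_dvd_mul_left h1
  rw [Finset.sum_eq_single (1 : N) (fun m _ hm => h0 m hm) (fun h => absurd (Finset.mem_univ _) h)]
  exact Core.isIrr_apply_one_ne_zero χ.2

/-- S4800 given FACT A for the simple quotients of the components. -/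
theorem p_constrained [Finite G] {p k : ℕ} [hp : Fact p.Prime]
    (hA : ∀ L : Subgroup G, IsQuasisimple L → Good (Nat.card (L ⧸ Subgroup.center L)))
    (χ : IrrCharacter G) (hfaith : ∀ g : G, (χ : G → ℂ) g = (χ : G → ℂ) 1 → g = 1)
    (hk : Nat.card G = p ^ k * charDegree (χ : G → ℂ)) :
    pPrimeCore p G = ⊥ ∧
      Subgroup.centralizer ((pCore p G : Subgroup G) : Set G) ≤ pCore p G := by
  classical
  have hfG : Fintype G := Fintype.ofFinite G
  have hker : chKer χ = ⊥ := by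
    rw [eq_bot_iff]
    intro g hg
    exact Subgroup.mem_bot.2 (hfaith g hg)
  have hO : pPrimeCore p G = ⊥ := by
    rw [eq_bot_iff]
    refine sSup_le fun N hN => ?_
    have := hN.1
    rw [← hker]
    exact normal_le_ker χ hk N hN.2
  refine ⟨hO, ?_⟩
  rw [SignalizersComponents.PConstrained.centralizer_pCore_le_iff_layer_eq_bot p hO]
  rw [eq_bot_iff]
  refine sSup_le fun L hL => ?_
  exfalso
  have hfL : Fintype L := Fintype.ofFinite L
  have : Finite (IrrCharacter L) := Core.finite_irr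
  have : Fintype (IrrCharacter L) := Fintype.ofFinite _
  have hq := hL.2
  have hres : IsCharacter L ((χ : G → ℂ) ∘ L.subtype) :=
    Core.isCharacter_comp _ (Core.isIrr_isCharacter χ.2)
  obtain ⟨m, hm, -⟩ := exists_decomp hres
  obtain ⟨θ, hθ0, hθ1⟩ : ∃ θ : IrrCharacter L, m θ ≠ 0 ∧ (θ : L → ℂ) ≠ 1 := by
    by_contra hno
    push Not at hno
    have h1 : ∀ x : L, (x : G) = 1 := by
      intro x
      apply hfaith
      have h2 : ∀ y : L, (χ : G → ℂ) y = ∑ θ : IrrCharacter L, (m θ : ℂ) := by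
        intro y
        have h3 := congrFun hm y
        rw [Finset.sum_apply] at h3
        rw [show (χ : G → ℂ) y = ((χ : G → ℂ) ∘ L.subtype) y from rfl, h3]
        refine Finset.sum_congr rfl fun θ _ => ?_
        by_cases h0 : m θ = 0
        · rw [h0]; simp
        · rw [hno θ h0]; simp
      rw [h2 x, ← h2 1]
      rfl
    have h2 : Subsingleton L := ⟨fun a b => Subtype.ext ((h1 a).trans (h1 b).symm)⟩
    have h3 : Subsingleton (L ⧸ Subgroup.center L) :=
      (QuotientGroup.mk_surjective (s := Subgroup.center L)).subsingleton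
    have := hq.2
    exact not_nontrivial _ this.toNontrivial
  have hin : classInner (fun h : L => (χ : G → ℂ) h) (θ : L → ℂ) ≠ 0 := by
    have h3 := Core.classInner_sum_nsmul_irr m θ
    rw [← hm] at h3
    have h4 : classInner (fun h : L => (χ : G → ℂ) h) (θ : L → ℂ) = (m θ : ℂ) := h3
    rw [h4]
    exact_mod_cast hθ0
  obtain ⟨b, hb⟩ := subnormal_ratio (χ : G → ℂ) χ.2 L hL.1 hfL θ θ.2 hin
  obtain ⟨a, ha⟩ := charDegree_dvd_card θ
  have hχpos := charDegree_pos χ
  have hθpos := charDegree_pos θ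
  have hab : p ^ k = b * a := by
    rw [hk, ha] at hb
    have h5 : charDegree (χ : G → ℂ) * charDegree (θ : L → ℂ) * p ^ k =
        charDegree (χ : G → ℂ) * charDegree (θ : L → ℂ) * (b * a) := by linarith
    exact Nat.eq_of_mul_eq_mul_left (Nat.mul_pos hχpos hθpos) h5
  have hc := codeg_mul θ
  set c := Nat.card L / (Nat.card {g : L // (θ : L → ℂ) g = (θ : L → ℂ) 1} *
    charDegree (θ : L → ℂ)) with hcdef
  have hca : c ∣ p ^ k := by
    refine dvd_trans ?_ (Dvd.intro_left b hab.symm)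
    have h5 : charDegree (θ : L → ℂ) * (c * Nat.card {g : L // (θ : L → ℂ) g = (θ : L → ℂ) 1}) =
        charDegree (θ : L → ℂ) * a := by
      rw [← ha, ← hc]
      ring
    exact ⟨_, (Nat.eq_of_mul_eq_mul_left hθpos h5).symm⟩
  obtain ⟨i, -, hi⟩ := (Nat.dvd_prime_pow hp.out).1 hca
  have hi0 : i ≠ 0 := by
    rintro rfl
    rw [pow_zero] at hi
    have h5 := codeg_mul_degree θ
    rw [← hcdef, hi, one_mul] at h5
    have h6 := sq_charDegree_le_index_center θ
    have hK : chKer θ ≤ Subgroup.center L := by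
      rcases Lib.ComponentSolvable.quasisimple_normal_cases hq (chKer_normal θ) with h | h
      · exact absurd ((chKer_eq_top_iff θ).1 h) hθ1
      · exact h
    have h7 : (Subgroup.center L).index ≤ (chKer θ).index :=
      Nat.le_of_dvd (Nat.pos_of_ne_zero Subgroup.index_ne_zero_of_finite)
        (Subgroup.index_dvd_of_le hK)
    have h8 : charDegree (θ : L → ℂ) ^ 2 ≤ charDegree (θ : L → ℂ) := by
      rw [h5] at *
      omega
    have h9 : charDegree (θ : L → ℂ) = 1 := by nlinarith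
    rw [h9] at h5
    exact hθ1 ((chKer_eq_top_iff θ).1 (Subgroup.index_eq_one.1 h5.symm))
  refine Quasi.not_isPrimePow hq (hA L hq) θ hθ1 ?_
  rw [← hcdef, hi]
  exact hp.out.isPrimePow.pow hi0

end Cfsg.Agent.H678.Subnormal

private theorem dce_83894421e870 : _root_.True := by
  try have : _root_.True := by simp only [_root_.Cfsg.Agent.H686.CharKit.chKer.congr_simp]
  exact _root_.True.intro
end

-- part: H676/OrdNT
section
prune_inst 0x800000000000008000000
set_option linter.all false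
open scoped Cfsg.Agent.FastGrp

/-!
# Prime power parts of `∏ (q ^ (2 i) - 1)` (helper676)

`two_le`, `odd_le` : bounds of the `r`-part of `∏ i < m, (q ^ (2 (i + 1)) - 1)` for a prime `r` not dividing `q`.
`good_psp`, `good_plus`, `good_minus` : `Good N` for the orders of the symplectic and orthogonal groups.
-/

set_option autoImplicit false

namespace Cfsg.Agent.H676.OrdNT

open Finset Cfsg.Agent.H678

/-- `∏_{i < m} (q ^ (2 (i + 1)) - 1)` -/
def P (q m : ℕ) : ℕ := ∏ i ∈ range m, (q ^ (2 * (i + 1)) - 1)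

theorem P_ne {q m : ℕ} (hq : 2 ≤ q) : P q m ≠ 0 := by
  unfold P
  rw [Finset.prod_ne_zero_iff]
  intro i _
  have : 2 ^ 1 ≤ q ^ (2 * (i + 1)) := by
    calc 2 ^ 1 ≤ q ^ 1 := Nat.pow_le_pow_left hq 1
      _ ≤ q ^ (2 * (i + 1)) := Nat.pow_le_pow_right (by omega) (by omega)
  omega

theorem P_lower {q m : ℕ} (hq : 1 ≤ q) : (q ^ 2 - 1) ^ m * q ^ (m * (m - 1)) ≤ P q m := by
  have h1 : (q ^ 2 - 1) ^ m * q ^ (m * (m - 1)) = ∏ i ∈ range m, ((q ^ 2 - 1) * q ^ (2 * i)) := by
    rw [Finset.prod_mul_distrib, Finset.prod_const, Finset.card_range, Finset.prod_pow_eq_pow_sum,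
      ← Finset.mul_sum, mul_comm 2, Finset.sum_range_id_mul_two]
  rw [h1]
  unfold P
  apply Finset.prod_le_prod'
  intro i _
  have h2 : 1 ≤ q ^ (2 * i) := Nat.one_le_pow _ _ hq
  have h3 : q ^ (2 * (i + 1)) = q ^ 2 * q ^ (2 * i) := by rw [← pow_add]; ring_nf
  rw [h3, Nat.sub_mul, one_mul]
  omega

theorem coprime_P {q m r : ℕ} (hr : r.Prime) (hq : r ∣ q) (hq2 : 1 ≤ q) : Nat.Coprime r (P q m) := by
  unfold P
  apply Nat.Coprime.prod_right
  intro i _
  rw [hr.coprime_iff_not_dvd]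
  intro h
  have h1 : r ∣ q ^ (2 * (i + 1)) := dvd_pow hq (by omega)
  have h2 : 1 ≤ q ^ (2 * (i + 1)) := Nat.one_le_pow _ _ hq2
  have h3 := Nat.dvd_sub h1 h
  rw [Nat.sub_sub_self h2] at h3
  exact hr.one_lt.ne' (Nat.dvd_one.1 h3)

theorem succ_pow_ge {q e : ℕ} (he : 1 ≤ e) : q ^ e + 1 ≤ (q + 1) ^ e := by
  obtain ⟨k, rfl⟩ : ∃ k, e = k + 1 := ⟨e - 1, by omega⟩
  clear he
  induction k with
  | zero => simp
  | succ k ih =>
    calc q ^ (k + 1 + 1) + 1 ≤ (q ^ (k + 1) + 1) * (q + 1) := by ring_nf; nlinarith [Nat.zero_le (q ^ k * q), Nat.zero_le q]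
      _ ≤ (q + 1) ^ (k + 1) * (q + 1) := Nat.mul_le_mul_right _ ih
      _ = (q + 1) ^ (k + 1 + 1) := by ring

/-- `r ^ v_r(t!) ≤ 2 ^ (t - 1)` -/
theorem fact_le {r t : ℕ} (hr : r.Prime) : r ^ padicValNat r t.factorial ≤ 2 ^ (t - 1) := by
  have := Fact.mk hr
  rcases Nat.eq_zero_or_pos t with rfl | ht
  · simp
  have h1 := sub_one_mul_padicValNat_factorial_lt_of_ne_zero r ht.ne'
  have h2 : r ≤ 2 ^ (r - 1) := by
    have : r - 1 < 2 ^ (r - 1) := Nat.lt_two_pow_self
    omega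
  calc r ^ padicValNat r t.factorial ≤ (2 ^ (r - 1)) ^ padicValNat r t.factorial := Nat.pow_le_pow_left h2 _
    _ = 2 ^ ((r - 1) * padicValNat r t.factorial) := by rw [← pow_mul]
    _ ≤ 2 ^ (t - 1) := Nat.pow_le_pow_right (by norm_num) (by omega)

/-- The `r`-part for `r` odd. -/
theorem odd_le {q m r k : ℕ} (hr : r.Prime) (hr2 : r ≠ 2) (hq : ¬ r ∣ q) (hq2 : 2 ≤ q) (hm : 1 ≤ m)
    (hk : r ^ k ∣ P q m) : r ^ k ≤ (q + 1) ^ m * 2 ^ (m - 1) := by
  have := Fact.mk hr
  -- the order of `q ^ 2` modulo `r`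
  have hcop : Nat.Coprime (q ^ 2) r := ((hr.coprime_iff_not_dvd).2 (fun h => hq (hr.dvd_of_dvd_pow h))).symm
  set e := orderOf (ZMod.unitOfCoprime (q ^ 2) hcop) with he
  have hepos : 0 < e := orderOf_pos _
  have hdvd : ∀ i : ℕ, r ∣ q ^ (2 * i) - 1 ↔ e ∣ i := by
    intro i
    rw [he, orderOf_dvd_iff_pow_eq_one]
    have h1 : 1 ≤ q ^ (2 * i) := Nat.one_le_pow _ _ (by omega)
    rw [← ZMod.natCast_eq_zero_iff, Nat.cast_sub h1, sub_eq_zero, Units.ext_iff]
    simp [pow_mul]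
  set a := padicValNat r (q ^ (2 * e) - 1) with ha
  have hval : ∀ j : ℕ, 1 ≤ j → padicValNat r (q ^ (2 * (e * j)) - 1) = a + padicValNat r j := by
    intro j hj
    have h1 : r ∣ q ^ (2 * e) - 1 := (hdvd e).2 dvd_rfl
    have h2 : 1 < q ^ (2 * e) := Nat.one_lt_pow (by omega) (by omega)
    have h3 := padicValNat.pow_sub_pow (p := r) (hr.odd_of_ne_two hr2) h2 h1
      (fun h => hq (hr.dvd_of_dvd_pow h)) (n := j) (by omega)
    rw [one_pow, ← pow_mul] at h3
    rw [← mul_assoc, h3]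
  have hsum : ∀ n : ℕ, padicValNat r (P q n) = (n / e) * a + padicValNat r (n / e).factorial := by
    intro n
    induction n with
    | zero => simp [P]
    | succ n ih =>
      have h0 : q ^ (2 * (n + 1)) - 1 ≠ 0 := by
        have : 1 < q ^ (2 * (n + 1)) := Nat.one_lt_pow (by omega) (by omega)
        omega
      have h1 : P q (n + 1) = P q n * (q ^ (2 * (n + 1)) - 1) := by
        unfold P; rw [Finset.prod_range_succ]
      rw [h1, padicValNat.mul (P_ne hq2) h0, ih, Nat.succ_div]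
      split_ifs with h
      · obtain ⟨j, hj⟩ := h
        have hj1 : 1 ≤ j := by
          rcases Nat.eq_zero_or_pos j with rfl | h'
          · simp at hj
          · exact h'
        have h2 : n / e + 1 = j := by
          have h3 : (n + 1) / e = j := by rw [hj]; exact Nat.mul_div_cancel_left _ hepos
          rw [← h3, Nat.succ_div, if_pos ⟨j, hj⟩]
        rw [hj, hval j hj1, Nat.factorial_succ, padicValNat.mul (by omega) (Nat.factorial_ne_zero _), h2,
          ← h2]
        ring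
      · have h2 : padicValNat r (q ^ (2 * (n + 1)) - 1) = 0 := by
          apply padicValNat.eq_zero_of_not_dvd
          rw [hdvd]
          exact h
        rw [h2]
        simp
  have hka : r ^ k ≤ r ^ padicValNat r (P q m) :=
    Nat.pow_le_pow_right hr.pos ((padicValNat_dvd_iff_le (P_ne hq2)).1 hk)
  have hra : r ^ a ≤ q ^ e + 1 := by
    have h1 : r ^ a ∣ q ^ (2 * e) - 1 := by rw [ha]; exact pow_padicValNat_dvd
    have h2 : q ^ (2 * e) - 1 = (q ^ e - 1) * (q ^ e + 1) := by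
      rw [mul_comm 2 e, pow_mul, mul_comm (q ^ e - 1), ← Nat.sq_sub_sq]
    rw [h2] at h1
    have h3 : 1 < q ^ e := Nat.one_lt_pow (by omega) (by omega)
    by_cases h4 : r ∣ q ^ e - 1
    · have h5 : ¬ r ∣ q ^ e + 1 := by
        intro h5
        have h6 := Nat.dvd_sub h5 h4
        have h7 : q ^ e + 1 - (q ^ e - 1) = 2 := by omega
        rw [h7] at h6
        exact hr2 ((Nat.prime_dvd_prime_iff_eq hr Nat.prime_two).1 h6)
      have h6 : r ^ a ∣ q ^ e - 1 :=
        (Nat.Coprime.pow_left a ((hr.coprime_iff_not_dvd).2 h5)).dvd_of_dvd_mul_right h1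
      have := Nat.le_of_dvd (by omega) h6
      omega
    · have h6 : r ^ a ∣ q ^ e + 1 :=
        (Nat.Coprime.pow_left a ((hr.coprime_iff_not_dvd).2 h4)).dvd_of_dvd_mul_left h1
      exact Nat.le_of_dvd (by omega) h6
  calc r ^ k ≤ r ^ padicValNat r (P q m) := hka
    _ = (r ^ a) ^ (m / e) * r ^ padicValNat r (m / e).factorial := by
        rw [hsum, pow_add, ← pow_mul, mul_comm a]
    _ ≤ (q ^ e + 1) ^ (m / e) * 2 ^ (m / e - 1) := Nat.mul_le_mul (Nat.pow_le_pow_left hra _) (fact_le hr)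
    _ ≤ ((q + 1) ^ e) ^ (m / e) * 2 ^ (m - 1) :=
        Nat.mul_le_mul (Nat.pow_le_pow_left (succ_pow_ge hepos) _)
          (Nat.pow_le_pow_right (by norm_num) (Nat.sub_le_sub_right (Nat.div_le_self _ _) _))
    _ ≤ (q + 1) ^ m * 2 ^ (m - 1) := by
        apply Nat.mul_le_mul_right
        rw [← pow_mul]
        exact Nat.pow_le_pow_right (by omega) (Nat.mul_div_le m e)

/-- The `2`-part, `q` odd. -/
theorem two_le {q m k : ℕ} (hq : ¬ 2 ∣ q) (hq2 : 2 ≤ q) (hk : 2 ^ k ∣ P q m) :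
    2 ^ k ≤ (2 * (q + 1)) ^ m * 2 ^ (m - 1) := by
  set a := padicValNat 2 (q + 1) + padicValNat 2 (q - 1) with ha
  have hval : ∀ i : ℕ, padicValNat 2 (q ^ (2 * (i + 1)) - 1) = a + padicValNat 2 (i + 1) := by
    intro i
    have h1 : 2 ∣ q - 1 := by omega
    have h3 := padicValNat.pow_two_sub_pow (x := q) (y := 1) (by omega) h1 hq (n := 2 * (i + 1)) (by omega)
      (even_two_mul _)
    rw [one_pow, padicValNat.mul (by norm_num) (by omega), padicValNat.self (by norm_num)] at h3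
    omega
  have hsum : ∀ n : ℕ, padicValNat 2 (P q n) = n * a + padicValNat 2 n.factorial := by
    intro n
    induction n with
    | zero => simp [P]
    | succ n ih =>
      have h0 : q ^ (2 * (n + 1)) - 1 ≠ 0 := by
        have : 1 < q ^ (2 * (n + 1)) := Nat.one_lt_pow (by omega) (by omega)
        omega
      have h1 : P q (n + 1) = P q n * (q ^ (2 * (n + 1)) - 1) := by
        unfold P; rw [Finset.prod_range_succ]
      rw [h1, padicValNat.mul (P_ne hq2) h0, ih, hval, Nat.factorial_succ,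
        padicValNat.mul (by omega) (Nat.factorial_ne_zero _)]
      ring
  have hka : 2 ^ k ≤ 2 ^ padicValNat 2 (P q m) :=
    Nat.pow_le_pow_right (by norm_num) ((padicValNat_dvd_iff_le (P_ne hq2)).1 hk)
  have hra : 2 ^ a ≤ 2 * (q + 1) := by
    have h1 : 2 ^ padicValNat 2 (q + 1) ∣ q + 1 := pow_padicValNat_dvd
    have h2 : 2 ^ padicValNat 2 (q - 1) ∣ q - 1 := pow_padicValNat_dvd
    have h3 := Nat.le_of_dvd (by omega) h1
    have h4 := Nat.le_of_dvd (by omega) h2
    rw [ha, pow_add]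
    by_cases h5 : padicValNat 2 (q + 1) ≤ 1
    · calc 2 ^ padicValNat 2 (q + 1) * 2 ^ padicValNat 2 (q - 1) ≤ 2 ^ 1 * (q + 1) :=
          Nat.mul_le_mul (Nat.pow_le_pow_right (by norm_num) h5) (by omega)
        _ = _ := by ring
    · have h6 : 4 ∣ q + 1 := dvd_trans (pow_dvd_pow 2 (by omega : 2 ≤ _)) h1
      have h7 : padicValNat 2 (q - 1) ≤ 1 := by
        by_contra h8
        have h9 : 4 ∣ q - 1 := dvd_trans (pow_dvd_pow 2 (by omega : 2 ≤ _)) h2
        omega
      calc 2 ^ padicValNat 2 (q + 1) * 2 ^ padicValNat 2 (q - 1) ≤ (q + 1) * 2 ^ 1 :=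
          Nat.mul_le_mul h3 (Nat.pow_le_pow_right (by norm_num) h7)
        _ = _ := by ring
  calc 2 ^ k ≤ 2 ^ padicValNat 2 (P q m) := hka
    _ = (2 ^ a) ^ m * 2 ^ padicValNat 2 m.factorial := by
        rw [hsum, pow_add, ← pow_mul, mul_comm a]
    _ ≤ (2 * (q + 1)) ^ m * 2 ^ (m - 1) := Nat.mul_le_mul (Nat.pow_le_pow_left hra _) (fact_le Nat.prime_two)


/-! ### `Good N` -/

theorem good_core {l f s q N D X : ℕ} (hl : l.Prime) (hq : q = l ^ f) (hN : D * N = q ^ s * X) (hD : 0 < D)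
    (hD4 : D ∣ 4) (hX : Nat.Coprime l X) (h1 : q ^ s * D < X)
    (h2 : ∀ r k : ℕ, r.Prime → r ≠ l → r ^ k * (if r = 2 then D else 1) ∣ X → (r ^ k) ^ 2 * D < q ^ s * X) :
    Good N := by
  refine good_of_dvd fun p k hp hk => ?_
  have hqpos : 0 < q ^ s := by
    rw [hq]
    exact pow_pos (pow_pos hl.pos _) _
  by_cases hpl : p = l
  · subst hpl
    have h3 : p ^ k ∣ q ^ s * X := hN ▸ (hk.mul_left D)
    have h4 : p ^ k ∣ q ^ s := (Nat.Coprime.pow_left k hX).dvd_of_dvd_mul_right h3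
    have h5 := Nat.le_of_dvd hqpos h4
    have h6 : D * (p ^ k) ^ 2 < D * N := by
      rw [hN]
      calc D * (p ^ k) ^ 2 ≤ D * (q ^ s) ^ 2 := Nat.mul_le_mul_left _ (Nat.pow_le_pow_left h5 2)
        _ = q ^ s * (q ^ s * D) := by ring
        _ < q ^ s * X := Nat.mul_lt_mul_of_pos_left h1 hqpos
    exact lt_of_mul_lt_mul_left h6 (Nat.zero_le _)
  · have hcop : Nat.Coprime p (q ^ s) := by
      rw [hq]
      exact Nat.Coprime.pow_right _ (Nat.Coprime.pow_right _ ((Nat.coprime_primes hp hl).2 hpl))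
    have h3 : p ^ k * (if p = 2 then D else 1) ∣ X := by
      split_ifs with h
      · subst h
        have h4 : 2 ^ k * D ∣ q ^ s * X := by
          rw [← hN, mul_comm]
          exact Nat.mul_dvd_mul_left D hk
        have h5 : Nat.Coprime (2 ^ k * D) (q ^ s) := by
          apply Nat.Coprime.mul_left
          · exact Nat.Coprime.pow_left k hcop
          · exact Nat.Coprime.coprime_dvd_left hD4 (by
              have : (4 : ℕ) = 2 ^ 2 := by norm_num
              rw [this]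
              exact Nat.Coprime.pow_left 2 hcop)
        exact h5.dvd_of_dvd_mul_left h4
      · rw [mul_one]
        have h4 : p ^ k ∣ q ^ s * X := hN ▸ (hk.mul_left D)
        exact (Nat.Coprime.pow_left k hcop).dvd_of_dvd_mul_left h4
    have h4 := h2 p k hp hpl h3
    have h6 : D * (p ^ k) ^ 2 < D * N := by
      rw [hN, mul_comm D]
      exact h4
    exact lt_of_mul_lt_mul_left h6 (Nat.zero_le _)

theorem sq_sub_one {q : ℕ} (hq : 1 ≤ q) : q ^ 2 - 1 = (q - 1) * (q + 1) := by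
  obtain ⟨t, rfl⟩ : ∃ t, q = t + 1 := ⟨q - 1, by omega⟩
  have : (t + 1) ^ 2 = t * (t + 2) + 1 := by ring
  rw [this]
  simp

theorem ineq_psp {q m D : ℕ} (hD : (q = 2 ∧ D = 1 ∧ 3 ≤ m) ∨ (3 ≤ q ∧ D ≤ 2 ∧ 2 ≤ m)) :
    (q + 1) ^ m * 16 ^ (m - 1) * D < q ^ (m ^ 2 + (m * (m - 1))) * (q - 1) ^ m := by
  rcases hD with ⟨rfl, rfl, hm⟩ | ⟨hq, hD, hm⟩
  · obtain ⟨n, rfl⟩ : ∃ n, m = n + 3 := ⟨m - 3, by omega⟩
    have e1 : (n + 3) ^ 2 + (n + 3) * (n + 3 - 1) = 2 * n ^ 2 + 5 * n + 6 * n + 15 := by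
      rw [show n + 3 - 1 = n + 2 by omega]; ring
    rw [e1, show n + 3 - 1 = n + 2 by omega]
    calc (2 + 1) ^ (n + 3) * 16 ^ (n + 2) * 1 = 6912 * 48 ^ n := by
          rw [pow_add, pow_add, show (48 : ℕ) = 3 * 16 by norm_num, mul_pow]; ring
      _ < 2 ^ 15 * 64 ^ n :=
          Nat.mul_lt_mul_of_lt_of_le (by norm_num) (Nat.pow_le_pow_left (by norm_num) n) (by positivity)
      _ = 2 ^ (6 * n + 15) := by rw [show (64 : ℕ) = 2 ^ 6 by norm_num, ← pow_mul, ← pow_add]; ring_nf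
      _ ≤ 2 ^ (2 * n ^ 2 + 5 * n + 6 * n + 15) := Nat.pow_le_pow_right (by norm_num) (by omega)
      _ = _ := by simp
  · obtain ⟨n, rfl⟩ : ∃ n, m = n + 2 := ⟨m - 2, by omega⟩
    have e1 : (n + 2) ^ 2 + (n + 2) * (n + 2 - 1) = 2 * n ^ 2 + (7 * n + 6) := by
      rw [show n + 2 - 1 = n + 1 by omega]; ring
    rw [e1, show n + 2 - 1 = n + 1 by omega]
    have h1 : q + 1 ≤ 2 * (q - 1) := by omega
    have hpos : 0 < (q - 1) ^ (n + 2) := pow_pos (by omega) _
    calc (q + 1) ^ (n + 2) * 16 ^ (n + 1) * D ≤ (2 * (q - 1)) ^ (n + 2) * 16 ^ (n + 1) * 2 :=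
          Nat.mul_le_mul (Nat.mul_le_mul_right _ (Nat.pow_le_pow_left h1 _)) hD
      _ = (128 * 32 ^ n) * (q - 1) ^ (n + 2) := by
          rw [mul_pow, pow_add 2, pow_add 16, show (32 : ℕ) = 2 * 16 by norm_num, mul_pow]; ring
      _ < (3 ^ 6 * (3 ^ 7) ^ n) * (q - 1) ^ (n + 2) := by
          apply Nat.mul_lt_mul_of_pos_right _ hpos
          exact Nat.mul_lt_mul_of_lt_of_le (by norm_num) (Nat.pow_le_pow_left (by norm_num) n) (by positivity)
      _ = 3 ^ (7 * n + 6) * (q - 1) ^ (n + 2) := by rw [← pow_mul, ← pow_add]; ring_nf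
      _ ≤ q ^ (2 * n ^ 2 + (7 * n + 6)) * (q - 1) ^ (n + 2) := by
          apply Nat.mul_le_mul_right
          calc 3 ^ (7 * n + 6) ≤ q ^ (7 * n + 6) := Nat.pow_le_pow_left hq _
            _ ≤ _ := Nat.pow_le_pow_right (by omega) (by omega)

theorem ineq_om {q m D : ℕ} (hm : 4 ≤ m) (hD : (q = 2 ∧ D = 1) ∨ (3 ≤ q ∧ D ≤ 4)) :
    (q ^ m + 1) * (q + 1) ^ (m - 1) * 16 ^ (m - 2) * D <
      q ^ (m * (m - 1) + (m - 1) * (m - 1 - 1)) * (q - 1) ^ (m - 1) := by
  obtain ⟨n, rfl⟩ : ∃ n, m = n + 4 := ⟨m - 4, by omega⟩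
  have e1 : (n + 4) * (n + 4 - 1) + (n + 4 - 1) * (n + 4 - 1 - 1) = 2 * n ^ 2 + (12 * n + 18) := by
    rw [show n + 4 - 1 = n + 3 by omega, show n + 3 - 1 = n + 2 by omega]; ring
  rw [e1, show n + 4 - 1 = n + 3 by omega, show n + 4 - 2 = n + 2 by omega]
  rcases hD with ⟨rfl, rfl⟩ | ⟨hq, hD⟩
  · have h1 : 2 ^ (n + 4) + 1 ≤ 17 * 2 ^ n := by
      have : 1 ≤ 2 ^ n := Nat.one_le_two_pow
      rw [pow_add]
      omega
    calc (2 ^ (n + 4) + 1) * (2 + 1) ^ (n + 3) * 16 ^ (n + 2) * 1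
        ≤ (17 * 2 ^ n) * (2 + 1) ^ (n + 3) * 16 ^ (n + 2) * 1 := by gcongr
      _ = 117504 * 96 ^ n := by
          rw [pow_add, pow_add, show (96 : ℕ) = 2 * 3 * 16 by norm_num, mul_pow, mul_pow]; ring
      _ < 2 ^ 18 * (2 ^ 12) ^ n :=
          Nat.mul_lt_mul_of_lt_of_le (by norm_num) (Nat.pow_le_pow_left (by norm_num) n) (by positivity)
      _ = 2 ^ (12 * n + 18) := by rw [← pow_mul, ← pow_add]; ring_nf
      _ ≤ 2 ^ (2 * n ^ 2 + (12 * n + 18)) := Nat.pow_le_pow_right (by norm_num) (by omega)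
      _ = _ := by simp
  · have h1 : q + 1 ≤ 2 * (q - 1) := by omega
    have h2 : q ^ (n + 4) + 1 ≤ 2 * q ^ (n + 4) := by
      have : 1 ≤ q ^ (n + 4) := Nat.one_le_pow _ _ (by omega)
      omega
    have hpos : 0 < (q - 1) ^ (n + 3) := pow_pos (by omega) _
    calc (q ^ (n + 4) + 1) * (q + 1) ^ (n + 3) * 16 ^ (n + 2) * D
        ≤ (2 * q ^ (n + 4)) * (2 * (q - 1)) ^ (n + 3) * 16 ^ (n + 2) * 4 := by gcongr
      _ = (2 ^ 14 * 32 ^ n) * (q ^ (n + 4) * (q - 1) ^ (n + 3)) := by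
          rw [mul_pow, pow_add 2, pow_add 16, show (32 : ℕ) = 2 * 16 by norm_num, mul_pow]; ring
      _ < (3 ^ 14 * (3 ^ 11) ^ n) * (q ^ (n + 4) * (q - 1) ^ (n + 3)) := by
          apply Nat.mul_lt_mul_of_pos_right _ (Nat.mul_pos (pow_pos (by omega) _) hpos)
          exact Nat.mul_lt_mul_of_lt_of_le (by norm_num) (Nat.pow_le_pow_left (by norm_num) n) (by positivity)
      _ = 3 ^ (11 * n + 14) * (q ^ (n + 4) * (q - 1) ^ (n + 3)) := by rw [← pow_mul, ← pow_add]; ring_nf
      _ ≤ q ^ (2 * n ^ 2 + (11 * n + 14)) * (q ^ (n + 4) * (q - 1) ^ (n + 3)) := by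
          apply Nat.mul_le_mul_right
          calc 3 ^ (11 * n + 14) ≤ q ^ (11 * n + 14) := Nat.pow_le_pow_left hq _
            _ ≤ _ := Nat.pow_le_pow_right (by omega) (by omega)
      _ = _ := by rw [← mul_assoc, ← pow_add]; ring_nf

theorem even_or {q : ℕ} (hq : IsPrimePow q) : ∃ l f : ℕ, l.Prime ∧ 0 < f ∧ q = l ^ f ∧ 2 ≤ q ∧ (¬ l = 2 → ¬ 2 ∣ q) := by
  obtain ⟨l, f, hl, hf, rfl⟩ := (isPrimePow_nat_iff q).1 hq
  refine ⟨l, f, hl, hf, rfl, ?_, fun h h2 => ?_⟩
  · calc 2 ≤ l := hl.two_le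
      _ = l ^ 1 := (pow_one l).symm
      _ ≤ l ^ f := Nat.pow_le_pow_right hl.pos hf
  · exact h ((Nat.prime_dvd_prime_iff_eq Nat.prime_two hl).1 (Nat.prime_two.dvd_of_dvd_pow h2)).symm

theorem good_psp {q m N : ℕ} (hq : IsPrimePow q) (hm : 2 ≤ m) (hm2 : m = 2 → 3 ≤ q)
    (hN : Nat.gcd 2 (q - 1) * N = q ^ (m ^ 2) * P q m) : Good N := by
  obtain ⟨l, f, hl, hf, hqe, hq2, hodd⟩ := even_or hq
  have hD2 : Nat.gcd 2 (q - 1) ∣ 2 := Nat.gcd_dvd_left _ _
  have hDle : Nat.gcd 2 (q - 1) ≤ 2 := Nat.le_of_dvd (by norm_num) hD2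
  have hDpos : 0 < Nat.gcd 2 (q - 1) := Nat.gcd_pos_of_pos_left _ (by norm_num)
  have hcase : (q = 2 ∧ Nat.gcd 2 (q - 1) = 1 ∧ 3 ≤ m) ∨ (3 ≤ q ∧ Nat.gcd 2 (q - 1) ≤ 2 ∧ 2 ≤ m) := by
    rcases Nat.lt_or_ge q 3 with h | h
    · have : q = 2 := by omega
      subst this
      exact Or.inl ⟨rfl, by norm_num, by by_contra h3; exact absurd (hm2 (by omega)) (by norm_num)⟩
    · exact Or.inr ⟨h, hDle, hm⟩
  set D := Nat.gcd 2 (q - 1) with hDdef
  have hlq : l ∣ q := by rw [hqe]; exact dvd_pow_self l hf.ne'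
  have hPl := P_lower (q := q) (m := m) (by omega)
  have hm3 : m ^ 2 = m * (m - 1) + m := by
    obtain ⟨n, rfl⟩ : ∃ n, m = n + 1 := ⟨m - 1, by omega⟩
    rw [Nat.add_sub_cancel]; ring
  refine good_core hl hqe hN hDpos (hD2.trans (by norm_num)) (coprime_P hl hlq (by omega)) ?_ ?_
  · have h1 : q ^ m * D < (q ^ 2 - 1) ^ m := by
      rcases hcase with ⟨h1, h2, h3⟩ | ⟨h1, h2, h3⟩
      · rw [h1, h2, mul_one]
        exact Nat.pow_lt_pow_left (by norm_num) (by omega)
      · have h4 : 2 * q ≤ q ^ 2 - 1 := by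
          have : q * 3 ≤ q ^ 2 := by rw [pow_two]; exact Nat.mul_le_mul_left _ h1
          omega
        have h5 : 2 ^ 2 ≤ 2 ^ m := Nat.pow_le_pow_right (by norm_num) h3
        have h6 : 0 < q ^ m := pow_pos (by omega) _
        calc q ^ m * D < q ^ m * 2 ^ m := Nat.mul_lt_mul_of_pos_left (by omega) h6
          _ = (2 * q) ^ m := by rw [mul_pow, mul_comm]
          _ ≤ _ := Nat.pow_le_pow_left h4 m
    calc q ^ (m ^ 2) * D = (q ^ m * D) * q ^ (m * (m - 1)) := by rw [hm3, pow_add]; ring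
      _ < (q ^ 2 - 1) ^ m * q ^ (m * (m - 1)) := Nat.mul_lt_mul_of_pos_right h1 (pow_pos (by omega) _)
      _ ≤ P q m := hPl
  · intro r k hr hrl hk
    have hrq : ¬ r ∣ q := by
      intro h
      rw [hqe] at h
      exact hrl ((Nat.prime_dvd_prime_iff_eq hr hl).1 (hr.dvd_of_dvd_pow h))
    have hR : r ^ k ≤ (q + 1) ^ m * 4 ^ (m - 1) := by
      split_ifs at hk with h2
      · subst h2
        have hD2' : D = 2 := by
          have h3 : 2 ∣ q - 1 := by omega
          rw [hDdef]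
          exact Nat.gcd_eq_left h3
        rw [hD2', ← pow_succ] at hk
        have h4 := two_le hrq hq2 hk
        rw [pow_succ, mul_pow] at h4
        have h5 : 2 * ((q + 1) ^ m * 4 ^ (m - 1)) = 2 ^ m * (q + 1) ^ m * 2 ^ (m - 1) := by
          obtain ⟨n, rfl⟩ : ∃ n, m = n + 1 := ⟨m - 1, by omega⟩
          rw [Nat.add_sub_cancel, show (4 : ℕ) = 2 * 2 by norm_num, mul_pow 2 2 n, pow_succ 2 n]
          ring
        omega
      · rw [mul_one] at hk
        calc r ^ k ≤ (q + 1) ^ m * 2 ^ (m - 1) := odd_le hr h2 hrq hq2 (by omega) hk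
          _ ≤ _ := Nat.mul_le_mul_left _ (Nat.pow_le_pow_left (by norm_num) _)
    have hI := ineq_psp hcase
    calc (r ^ k) ^ 2 * D ≤ ((q + 1) ^ m * 4 ^ (m - 1)) ^ 2 * D :=
          Nat.mul_le_mul_right _ (Nat.pow_le_pow_left hR 2)
      _ = ((q + 1) ^ m * 16 ^ (m - 1) * D) * (q + 1) ^ m := by
          rw [show (16 : ℕ) = 4 * 4 by norm_num, mul_pow 4 4]; ring
      _ < (q ^ (m ^ 2 + (m * (m - 1))) * (q - 1) ^ m) * (q + 1) ^ m :=
          Nat.mul_lt_mul_of_pos_right hI (pow_pos (by omega) _)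
      _ = q ^ (m ^ 2) * ((q ^ 2 - 1) ^ m * q ^ (m * (m - 1))) := by
          rw [sq_sub_one (by omega), mul_pow, pow_add]; ring
      _ ≤ q ^ (m ^ 2) * P q m := Nat.mul_le_mul_left _ hPl

/-- The two even orthogonal families at once: `A = q ^ m ± 1`. -/
theorem good_om {q m N A : ℕ} (hq : IsPrimePow q) (hm : 4 ≤ m) (hA : A = q ^ m - 1 ∨ A = q ^ m + 1)
    (hN : Nat.gcd 4 A * N = q ^ (m * (m - 1)) * (A * P q (m - 1))) : Good N := by
  obtain ⟨l, f, hl, hf, hqe, hq2, hodd⟩ := even_or hq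
  have hD4 : Nat.gcd 4 A ∣ 4 := Nat.gcd_dvd_left _ _
  have hDle : Nat.gcd 4 A ≤ 4 := Nat.le_of_dvd (by norm_num) hD4
  have hDpos : 0 < Nat.gcd 4 A := Nat.gcd_pos_of_pos_left _ (by norm_num)
  have hqm : 2 ≤ q ^ m := by
    calc 2 ≤ q := hq2
      _ = q ^ 1 := (pow_one q).symm
      _ ≤ q ^ m := Nat.pow_le_pow_right (by omega) (by omega)
  have hApos : 0 < A := by rcases hA with h | h <;> omega
  have hAle : A ≤ q ^ m + 1 := by rcases hA with h | h <;> omega
  have hAge : q ^ m - 1 ≤ A := by rcases hA with h | h <;> omega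
  have hcase : (q = 2 ∧ Nat.gcd 4 A = 1) ∨ (3 ≤ q ∧ Nat.gcd 4 A ≤ 4) := by
    rcases Nat.lt_or_ge q 3 with h | h
    · have : q = 2 := by omega
      subst this
      refine Or.inl ⟨rfl, ?_⟩
      have h1 : Nat.Coprime 2 A := by
        rw [Nat.coprime_two_left, ← Nat.not_even_iff_odd]
        intro he
        have h2 : 2 ∣ 2 ^ m := dvd_pow_self 2 (by omega)
        have h3 := he.two_dvd
        rcases hA with h | h <;> omega
      have h2 : Nat.Coprime (2 ^ 2) A := Nat.Coprime.pow_left 2 h1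
      exact h2
    · exact Or.inr ⟨h, hDle⟩
  set D := Nat.gcd 4 A with hDdef
  have hlq : l ∣ q := by rw [hqe]; exact dvd_pow_self l hf.ne'
  have hPl := P_lower (q := q) (m := m - 1) (by omega)
  have hcopA : Nat.Coprime l A := by
    rw [hl.coprime_iff_not_dvd]
    intro h
    have h1 : l ∣ q ^ m := dvd_pow hlq (by omega)
    rcases hA with h2 | h2
    · have h3 := Nat.dvd_sub h1 h
      rw [h2, Nat.sub_sub_self (by omega)] at h3
      exact hl.one_lt.ne' (Nat.dvd_one.1 h3)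
    · have h3 := Nat.dvd_sub h h1
      rw [h2, Nat.add_sub_cancel_left] at h3
      exact hl.one_lt.ne' (Nat.dvd_one.1 h3)
  have hm3 : m * (m - 1) = (m - 1) * (m - 1 - 1) + 2 * (m - 1) := by
    obtain ⟨n, rfl⟩ : ∃ n, m = n + 2 := ⟨m - 2, by omega⟩
    rw [show n + 2 - 1 = n + 1 by omega, Nat.add_sub_cancel]; ring
  refine good_core hl hqe hN hDpos hD4 (Nat.Coprime.mul_right hcopA (coprime_P hl hlq (by omega))) ?_ ?_
  · have h1 : q ^ (2 * (m - 1)) * D < A * (q ^ 2 - 1) ^ (m - 1) := by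
      obtain ⟨n, rfl⟩ : ∃ n, m = n + 4 := ⟨m - 4, by omega⟩
      rw [show n + 4 - 1 = n + 3 by omega]
      rcases hcase with ⟨h1, h2⟩ | ⟨h1, h2⟩
      · rw [h2, mul_one]
        have h3 : 15 * 2 ^ n ≤ A := by
          have h4 : 1 ≤ 2 ^ n := Nat.one_le_two_pow
          have h5 : q ^ (n + 4) = 16 * 2 ^ n := by rw [h1, pow_add]; ring
          omega
        rw [h1]
        calc 2 ^ (2 * (n + 3)) = 64 * 4 ^ n := by rw [show (4 : ℕ) = 2 ^ 2 by norm_num, ← pow_mul, mul_add, pow_add]; ring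
          _ < 405 * 6 ^ n :=
            Nat.mul_lt_mul_of_lt_of_le (by norm_num) (Nat.pow_le_pow_left (by norm_num) n) (by positivity)
          _ = (15 * 2 ^ n) * 3 ^ (n + 3) := by rw [show (6 : ℕ) = 2 * 3 by norm_num, mul_pow, pow_add 3]; ring
          _ ≤ A * (2 ^ 2 - 1) ^ (n + 3) := Nat.mul_le_mul h3 (by norm_num)
      · have h4 : 8 * q ^ 2 ≤ 9 * (q ^ 2 - 1) := by
          have : 3 * 3 ≤ q ^ 2 := by rw [pow_two]; exact Nat.mul_le_mul h1 h1
          omega
        have h5 : 2 * 3 ^ (n + 3) ≤ A := by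
          have h6 : 3 ^ (n + 4) ≤ q ^ (n + 4) := Nat.pow_le_pow_left h1 _
          have h7 : 1 ≤ 3 ^ (n + 3) := Nat.one_le_pow _ _ (by norm_num)
          have h8 : 3 ^ (n + 4) = 3 * 3 ^ (n + 3) := by rw [pow_succ]; ring
          omega
        have h6 : 0 < q ^ (2 * (n + 3)) := pow_pos (by omega) _
        have h7 : 9 ^ (n + 3) * (q ^ (2 * (n + 3)) * D) < 9 ^ (n + 3) * (A * (q ^ 2 - 1) ^ (n + 3)) := by
          calc 9 ^ (n + 3) * (q ^ (2 * (n + 3)) * D) ≤ 9 ^ (n + 3) * (q ^ (2 * (n + 3)) * 4) := by gcongr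
            _ = (4 * 9 ^ (n + 3)) * q ^ (2 * (n + 3)) := by ring
            _ < (2 * 24 ^ (n + 3)) * q ^ (2 * (n + 3)) := by
                apply Nat.mul_lt_mul_of_pos_right _ h6
                calc 4 * 9 ^ (n + 3) = 2916 * 9 ^ n := by rw [pow_add]; ring
                  _ < 27648 * 24 ^ n :=
                    Nat.mul_lt_mul_of_lt_of_le (by norm_num) (Nat.pow_le_pow_left (by norm_num) n) (by positivity)
                  _ = 2 * 24 ^ (n + 3) := by rw [pow_add]; ring
            _ = (2 * 3 ^ (n + 3)) * (8 * q ^ 2) ^ (n + 3) := by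
                rw [show (24 : ℕ) = 3 * 8 by norm_num, mul_pow 3 8, mul_pow 8, pow_mul]; ring
            _ ≤ A * (9 * (q ^ 2 - 1)) ^ (n + 3) := Nat.mul_le_mul h5 (Nat.pow_le_pow_left h4 _)
            _ = _ := by rw [mul_pow]; ring
        exact lt_of_mul_lt_mul_left h7 (Nat.zero_le _)
    calc q ^ (m * (m - 1)) * D = (q ^ (2 * (m - 1)) * D) * q ^ ((m - 1) * (m - 1 - 1)) := by
          rw [hm3, pow_add]; ring
      _ < (A * (q ^ 2 - 1) ^ (m - 1)) * q ^ ((m - 1) * (m - 1 - 1)) :=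
          Nat.mul_lt_mul_of_pos_right h1 (pow_pos (by omega) _)
      _ = A * ((q ^ 2 - 1) ^ (m - 1) * q ^ ((m - 1) * (m - 1 - 1))) := by ring
      _ ≤ A * P q (m - 1) := Nat.mul_le_mul_left _ hPl
  · intro r k hr hrl hk
    have hrq : ¬ r ∣ q := by
      intro h
      rw [hqe] at h
      exact hrl ((Nat.prime_dvd_prime_iff_eq hr hl).1 (hr.dvd_of_dvd_pow h))
    have hR : r ^ k ≤ A * ((q + 1) ^ (m - 1) * 4 ^ (m - 2)) := by
      split_ifs at hk with h2
      · subst h2
        obtain ⟨d, hd4, hd⟩ := (Nat.dvd_prime_pow Nat.prime_two (i := D) (m := 2)).1 hD4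
        have hd1 : 1 ≤ d := by
          rcases Nat.eq_zero_or_pos d with rfl | h'
          · exfalso
            have h3 : 2 ∣ A := by
              have h5 : ¬ 2 ∣ q ^ m := fun h => hrq (Nat.prime_two.dvd_of_dvd_pow h)
              rcases hA with h4 | h4 <;> omega
            have h4 : 2 ∣ D := Nat.dvd_gcd (by norm_num) h3
            rw [hd] at h4
            norm_num at h4
          · exact h'
        rw [hd, ← pow_add] at hk
        obtain ⟨k1, k2, hk1, hk2, hk12⟩ := Nat.dvd_mul.1 hk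
        obtain ⟨i, -, rfl⟩ := (Nat.dvd_prime_pow Nat.prime_two).1 (Dvd.intro _ hk12)
        obtain ⟨j, -, rfl⟩ := (Nat.dvd_prime_pow Nat.prime_two).1 (Dvd.intro_left _ hk12)
        have h3 := Nat.le_of_dvd hApos hk1
        have h4 := two_le hrq hq2 hk2
        have h5 : 2 ^ k * 2 ≤ A * ((2 * (q + 1)) ^ (m - 1) * 2 ^ (m - 1 - 1)) := by
          calc 2 ^ k * 2 ≤ 2 ^ k * 2 ^ d := Nat.mul_le_mul_left _ (by
                calc 2 = 2 ^ 1 := rfl
                  _ ≤ 2 ^ d := Nat.pow_le_pow_right (by norm_num) hd1)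
            _ = 2 ^ i * 2 ^ j := by rw [← pow_add, hk12]
            _ ≤ _ := Nat.mul_le_mul h3 h4
        have h6 : 2 * (A * ((q + 1) ^ (m - 1) * 4 ^ (m - 2))) = A * ((2 * (q + 1)) ^ (m - 1) * 2 ^ (m - 1 - 1)) := by
          obtain ⟨n, rfl⟩ : ∃ n, m = n + 2 := ⟨m - 2, by omega⟩
          rw [show n + 2 - 1 = n + 1 by omega, Nat.add_sub_cancel, Nat.add_sub_cancel, mul_pow 2 (q + 1),
            show (4 : ℕ) = 2 * 2 by norm_num, mul_pow 2 2 n, pow_succ 2 n]
          ring
        omega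
      · rw [mul_one] at hk
        obtain ⟨k1, k2, hk1, hk2, hk12⟩ := Nat.dvd_mul.1 hk
        obtain ⟨i, -, rfl⟩ := (Nat.dvd_prime_pow hr).1 (Dvd.intro _ hk12)
        obtain ⟨j, -, rfl⟩ := (Nat.dvd_prime_pow hr).1 (Dvd.intro_left _ hk12)
        have h3 := Nat.le_of_dvd hApos hk1
        have h4 := odd_le hr h2 hrq hq2 (by omega) hk2
        rw [← hk12]
        calc r ^ i * r ^ j ≤ A * ((q + 1) ^ (m - 1) * 2 ^ (m - 1 - 1)) := Nat.mul_le_mul h3 h4
          _ ≤ _ := Nat.mul_le_mul_left _ (Nat.mul_le_mul_left _ (Nat.pow_le_pow_left (by norm_num) _))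
    have hI := ineq_om hm hcase
    calc (r ^ k) ^ 2 * D ≤ (A * ((q + 1) ^ (m - 1) * 4 ^ (m - 2))) ^ 2 * D :=
          Nat.mul_le_mul_right _ (Nat.pow_le_pow_left hR 2)
      _ = (A * (q + 1) ^ (m - 1) * 16 ^ (m - 2) * D) * (A * (q + 1) ^ (m - 1)) := by
          rw [show (16 : ℕ) = 4 * 4 by norm_num, mul_pow 4 4]; ring
      _ ≤ ((q ^ m + 1) * (q + 1) ^ (m - 1) * 16 ^ (m - 2) * D) * (A * (q + 1) ^ (m - 1)) := by gcongr
      _ < (q ^ (m * (m - 1) + (m - 1) * (m - 1 - 1)) * (q - 1) ^ (m - 1)) * (A * (q + 1) ^ (m - 1)) :=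
          Nat.mul_lt_mul_of_pos_right hI (Nat.mul_pos hApos (pow_pos (by omega) _))
      _ = q ^ (m * (m - 1)) * (A * ((q ^ 2 - 1) ^ (m - 1) * q ^ ((m - 1) * (m - 1 - 1)))) := by
          rw [sq_sub_one (by omega), mul_pow, pow_add]; ring
      _ ≤ q ^ (m * (m - 1)) * (A * P q (m - 1)) := Nat.mul_le_mul_left _ (Nat.mul_le_mul_left _ hPl)

end Cfsg.Agent.H676.OrdNT

private theorem dce_5995073f7bd6 : _root_.True := by
  try have : _root_.True := by simp only [_root_.Cfsg.Agent.H676.OrdNT.P.eq_1]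
  exact _root_.True.intro
end
end
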