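import Cfsg.Agent.H678.SuzChar
import Cfsg.Agent.Characters.CCEstimates
import Cfsg.Agent.S0157
import Cfsg.Agent.S0324
import Cfsg.Agent.S0326
import Cfsg.Agent.S0327
import Cfsg.Agent.S0328
import Cfsg.Agent.S0333
import Cfsg.Agent.H355.SzFix
set_option linter.all false

-- part: H678/SuzChar8
section
set_option autoImplicit false

open scoped ComplexConjugate
open Cfsg

namespace Cfsg.Agent.H678.SuzChar

open Cfsg.Agent.Characters Cfsg.Agent.Characters.CCBasic Cfsg.Agent.Characters.CCValues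
  Cfsg.Agent.Characters.CCEstimates Cfsg.Agent.H678.CCExact Finset

universe u

variable {G : Type u} [Group G] [Fintype (IrrCharacter G)]

theorem ar6 {c : ℤ} {ε : ℤ} (hε : ε = 1 ∨ ε = -1) (h : 3 * c ^ 2 ≤ 2 + 2 * ε * c) : c = 0 ∨ c = ε := by
  rcases hε with rfl | rfl
  · have h1 : c ≤ 1 := by nlinarith
    have h2 : 0 ≤ c := by nlinarith
    omega
  · have h1 : -1 ≤ c := by nlinarith
    have h2 : c ≤ 0 := by nlinarith
    omega

theorem ar7 {w f : ℤ} (h0 : 0 < w) (hw : w ^ 2 ≤ 177) (hf : f ^ 2 ≤ 2) (h : (13 : ℤ) ∣ 7 * w - f) :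
    (w = 13 ∧ f = 0) ∨ (w = 2 ∧ f = 1) ∨ (w = 11 ∧ f = -1) := by
  have h1 : w ≤ 13 := by nlinarith
  have h2 : -1 ≤ f := by nlinarith
  have h3 : f ≤ 1 := by nlinarith
  interval_cases w <;> interval_cases f <;> revert h <;> decide

theorem degs_one [Fintype G] (hG : Nat.card G = 29120) {T A : Subgroup G} (D : CCData T 3 2) (E : CCData A 3 4)
    (cT : Nat.card T = 7) (cA : Nat.card A = 13)
    (St : IrrCharacter G) (St1 : charDegree (St : G → ℂ) = 64)
    (hStT : ∀ a ∈ T, a ≠ 1 → (St : G → ℂ) a = 1) (hStA : ∀ a ∈ A, a ≠ 1 → (St : G → ℂ) a = -1) :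
    Degs G 1 := by
  classical
  have hT0 : T ≠ ⊥ := by
    rintro rfl
    rw [Subgroup.card_bot] at cT
    omega
  have hA0 : A ≠ ⊥ := by
    rintro rfl
    rw [Subgroup.card_bot] at cA
    omega
  have hTA := not_conj (A := T) (B := A) (by rw [cT, cA]; norm_num)
  have hne : one G ≠ St := by
    intro h
    rw [← h, deg_one] at St1
    omega
  obtain ⟨o1, p1⟩ := const D hT0 (ψ := one G) (z := 1) (fun a _ _ => by rw [coe_one]; simp)
  obtain ⟨o2, p2⟩ := const E hA0 (ψ := one G) (z := 1) (fun a _ _ => by rw [coe_one]; simp)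
  obtain ⟨t1, u1⟩ := const D hT0 (ψ := St) (z := 1) (fun a ha ha1 => by rw [hStT a ha ha1]; simp)
  obtain ⟨t2, u2⟩ := const E hA0 (ψ := St) (z := -1) (fun a ha ha1 => by rw [hStA a ha ha1]; simp)
  have dDE : ∀ a ∈ D.R, a ∉ E.R := fun a ha => D.disjoint E (by omega) hTA ha
  have cD : D.c = 0 := c_eq_zero D hne (by rw [p1]; norm_num) (by rw [u1]; norm_num) le_rfl (by omega)
  have sqD : ∑ ψ, D.f ψ ^ 2 = 2 := by have := D.sq; rw [cD] at this; push_cast at this; linarith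
  have fD0 : ∀ ψ, ψ ≠ one G ∧ ψ ≠ St → D.f ψ = 0 := by
    rintro ψ ⟨h1, h2⟩
    have h := lower D hne (by rw [p1]; norm_num) (by rw [u1]; norm_num) (R' := {ψ}) (z := D.f ψ)
      (by simp) (by simpa using Ne.symm h1) (by simpa using Ne.symm h2)
    rw [sqD, Finset.card_singleton] at h
    have h3 := sq_nonneg (D.f ψ)
    have h4 : D.f ψ ^ 2 = 0 := by push_cast at h; linarith
    exact pow_eq_zero_iff (two_ne_zero) |>.1 h4
  have sdD := D.sd
  rw [cD, Fintype.sum_eq_add (one G) St hne (fun x hx => by rw [fD0 x hx, mul_zero]), p1, u1, deg_one, St1] at sdD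
  have hdD : D.d = 65 := by
    rcases D.hε with h | h
    · rw [h] at sdD; push_cast at sdD; omega
    · rw [h] at sdD; push_cast at sdD; omega
  -- the error `c`
  have hc : E.c = 0 ∨ E.c = E.ε := by
    have h := lower E hne (by rw [p2]; norm_num) (by rw [u2]; norm_num) (R' := ∅) (z := 0)
      (by simp) (by simp) (by simp)
    have h2 := E.sq
    push_cast at h h2
    refine ar6 E.hε ?_
    simp only [Finset.card_empty] at h
    push_cast at h
    linarith
  have hsq3 : ∑ ψ, E.f ψ ^ 2 ≤ 4 := by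
    have h2 := E.sq
    push_cast at h2
    rcases hc with h | h
    · rw [h] at h2; linarith
    · rw [h] at h2
      have h3 : E.ε * E.ε = 1 := by rcases E.hε with h | h <;> rw [h] <;> norm_num
      nlinarith
  have fE0D : ∀ ψ ∈ D.R, E.f ψ = 0 := by
    intro ψ hψ
    have h := lower E hne (by rw [p2]; norm_num) (by rw [u2]; norm_num) (R' := D.R) (z := E.f ψ)
      (fun χ hχ => D.f_eq E (by omega) hTA hA0 hχ hψ) o1 t1
    rw [D.hcard] at h
    push_cast at h
    by_contra hz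
    have h3 : 1 ≤ E.f ψ ^ 2 := by
      have := sq_nonneg (E.f ψ)
      have h7 : E.f ψ ^ 2 ≠ 0 := pow_ne_zero 2 hz
      omega
    linarith
  have hvT : ∀ ψ, ψ ≠ one G → ψ ≠ St → ψ ∉ D.R → (7 : ℤ) ∣ (charDegree (ψ : G → ℂ) : ℤ) := by
    intro ψ h1 h2 h3
    have h := D.dvd ψ h3
    rwa [fD0 ψ ⟨h1, h2⟩, sub_zero, cT] at h
  obtain ⟨ψE, hψE⟩ : E.R.Nonempty := Finset.card_pos.1 (by rw [E.hcard]; omega)
  obtain ⟨ψD, hψD⟩ : D.R.Nonempty := Finset.card_pos.1 (by rw [D.hcard]; omega)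
  obtain ⟨x, hx⟩ : (7 : ℤ) ∣ (E.d : ℤ) := by
    rw [← E.deg ψE hψE]
    exact hvT ψE (fun h => o2 (h ▸ hψE)) (fun h => t2 (h ▸ hψE)) (fun h => dDE _ h hψE)
  have hEpos : (0 : ℤ) < E.d := by
    rw [← E.deg ψE hψE]
    exact_mod_cast H686.CharKit.charDegree_pos ψE
  have hEdvd : (E.d : ℤ) ∣ 29120 := by
    rw [← E.deg ψE hψE]
    have h := Codeg.charDegree_dvd_card ψE
    rw [hG] at h
    exact_mod_cast h
  have hx1 : 0 < x := by omega
  set O := univ.filter (fun ψ : IrrCharacter G => ψ ≠ one G ∧ ψ ≠ St ∧ ψ ∉ D.R ∧ ψ ∉ E.R ∧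
    ψ ∉ (∅ : Finset (IrrCharacter G))) with hO
  have hsp := fun g : IrrCharacter G → ℤ => split hne o1 o2 (Finset.notMem_empty _) t1 t2
    (Finset.notMem_empty _) dDE (fun a _ => Finset.notMem_empty a) (fun a _ => Finset.notMem_empty a) g
  have hw' : ∀ ψ ∈ O, ∃ w : ℤ, (charDegree (ψ : G → ℂ) : ℤ) = 7 * w := by
    intro ψ hψ
    obtain ⟨h1, h2, h3, -, -⟩ := (Finset.mem_filter.1 hψ).2
    exact hvT ψ h1 h2 h3
  choose! w hw using hw'
  have hsumsq : ∑ ψ : IrrCharacter G, (charDegree (ψ : G → ℂ) : ℤ) ^ 2 = Nat.card G := by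
    exact_mod_cast H686.CharKit.sum_deg_sq (G := G)
  have hconst : ∀ {A : Subgroup G} {s e : ℕ} (D : CCData A s e) (g : IrrCharacter G → ℤ) (z : ℤ),
      (∀ ψ ∈ D.R, g ψ = z) → ∑ ψ ∈ D.R, g ψ = s * z := by
    intro A s e D g z h
    rw [Finset.sum_congr rfl h, Finset.sum_const, D.hcard, nsmul_eq_mul]
  have hW : 3 * x ^ 2 + ∑ ψ ∈ O, w ψ ^ 2 = 252 := by
    rw [hsp, hconst D _ ((D.d : ℤ) ^ 2) (fun ψ hψ => by rw [D.deg ψ hψ]),
      hconst E _ ((E.d : ℤ) ^ 2) (fun ψ hψ => by rw [E.deg ψ hψ]),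
      Finset.sum_congr (s₁ := O) rfl (fun ψ hψ => by rw [hw ψ hψ, mul_pow]), ← Finset.mul_sum, deg_one,
      St1, hdD, hx, hG, Finset.sum_empty] at hsumsq
    push_cast at hsumsq
    linarith
  have hOnn : 0 ≤ ∑ ψ ∈ O, w ψ ^ 2 := Finset.sum_nonneg fun _ _ => sq_nonneg _
  have hx9 : x ≤ 9 := by nlinarith
  have hdd := E.ddvd
  rw [hx, cA] at hdd
  have hc0 : E.c = 0 := by
    rcases hc with h | h
    · exact h
    · exfalso
      rw [h] at hdd
      rw [hx] at hEdvd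
      rcases E.hε with h | h
      · rw [h] at hdd
        interval_cases x <;> revert hdd <;> decide
      · rw [h] at hdd
        interval_cases x <;> revert hdd hEdvd <;> decide
  have hf2 : ∑ ψ ∈ O, E.f ψ ^ 2 = 2 := by
    have h := E.sq
    rw [hc0, hsp, hconst D _ 0 (fun ψ hψ => by rw [fE0D ψ hψ]; ring),
      hconst E _ 0 (fun ψ hψ => by rw [E.hf0 ψ hψ]; ring), p2, u2, Finset.sum_empty] at h
    push_cast at h
    linarith
  have hwf : ∑ ψ ∈ O, w ψ * E.f ψ = E.ε * x + 9 := by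
    have h := E.sd
    rw [hc0, hsp, hconst D _ 0 (fun ψ hψ => by rw [fE0D ψ hψ]; ring),
      hconst E _ 0 (fun ψ hψ => by rw [E.hf0 ψ hψ]; ring), p2, u2, deg_one, St1, hx, Finset.sum_empty,
      Finset.sum_congr (s₁ := O) rfl (fun ψ hψ => by rw [hw ψ hψ, mul_assoc]), ← Finset.mul_sum] at h
    push_cast at h
    linarith
  have hCS := Finset.sum_mul_sq_le_sq_mul_sq O w E.f
  rw [hf2, hwf] at hCS
  obtain ⟨hε, hx5⟩ : E.ε = -1 ∧ x = 5 := by
    rw [hc0] at hdd
    rcases E.hε with h | h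
    · exfalso
      rw [h] at hdd hCS
      have h8 : x = 8 := by
        interval_cases x <;> revert hdd <;> decide
      subst h8
      linarith
    · refine ⟨h, ?_⟩
      rw [h] at hdd
      interval_cases x <;> revert hdd <;> decide
  subst hx5
  rw [hε] at hwf
  have hW' : ∑ ψ ∈ O, w ψ ^ 2 = 177 := by linarith
  have hOc : ∀ ψ ∈ O, (w ψ = 13 ∧ E.f ψ = 0) ∨ (w ψ = 2 ∧ E.f ψ = 1) ∨ (w ψ = 11 ∧ E.f ψ = -1) := by
    intro ψ hψ
    obtain ⟨-, -, -, h4, -⟩ := (Finset.mem_filter.1 hψ).2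
    have h1 : 0 < w ψ := by
      have h2 : (0 : ℤ) < charDegree (ψ : G → ℂ) := by exact_mod_cast H686.CharKit.charDegree_pos ψ
      rw [hw ψ hψ] at h2
      omega
    have h2 : w ψ ^ 2 ≤ 177 := by
      rw [← hW']
      exact Finset.single_le_sum (f := fun ψ => w ψ ^ 2) (fun _ _ => sq_nonneg _) hψ
    have h3 : E.f ψ ^ 2 ≤ 2 := by
      rw [← hf2]
      exact Finset.single_le_sum (f := fun ψ => E.f ψ ^ 2) (fun _ _ => sq_nonneg _) hψ
    have h5 := E.dvd ψ h4
    rw [hw ψ hψ, cA] at h5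
    exact ar7 h1 h2 h3 h5
  have hno : ∀ ψ ∈ O, (w ψ = 13 ∧ E.f ψ = 0) ∨ (w ψ = 2 ∧ E.f ψ = 1) := by
    have h : ∑ ψ ∈ O, (2 * E.f ψ ^ 2 - w ψ * E.f ψ) = 0 := by
      rw [Finset.sum_sub_distrib, ← Finset.mul_sum, hf2, hwf]
      norm_num
    have h1 := (Finset.sum_eq_zero_iff_of_nonneg (fun ψ hψ => by
      rcases hOc ψ hψ with ⟨h1, h2⟩ | ⟨h1, h2⟩ | ⟨h1, h2⟩ <;> rw [h1, h2] <;> norm_num)).1 h
    intro ψ hψ
    rcases hOc ψ hψ with h2 | h2 | ⟨h2, h3⟩
    · exact Or.inl h2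
    · exact Or.inr h2
    · have := h1 ψ hψ
      rw [h2, h3] at this
      norm_num at this
  obtain ⟨ψ2, hψ2, hw2⟩ : ∃ ψ ∈ O, w ψ = 2 := by
    by_contra hno2
    push Not at hno2
    rw [Finset.sum_eq_zero] at hf2
    · norm_num at hf2
    · intro ψ hψ
      rcases hno ψ hψ with h | h
      · rw [h.2]; norm_num
      · exact absurd h.1 (hno2 ψ hψ)
  obtain ⟨ψ13, hψ13, hw13⟩ : ∃ ψ ∈ O, w ψ = 13 := by
    by_contra hno2
    push Not at hno2
    have h : ∑ ψ ∈ O, w ψ ^ 2 = ∑ ψ ∈ O, 4 * E.f ψ ^ 2 := by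
      refine Finset.sum_congr rfl fun ψ hψ => ?_
      rcases hno ψ hψ with h | h
      · exact absurd h.1 (hno2 ψ hψ)
      · rw [h.1, h.2]; norm_num
    rw [← Finset.mul_sum, hW', hf2] at h
    norm_num at h
  intro d
  constructor
  · rintro ⟨ψ, rfl⟩
    by_cases h1 : ψ = one G
    · left; rw [h1, deg_one]; norm_num
    by_cases h2 : ψ = St
    · right; left; rw [h2, St1]; norm_num
    by_cases h3 : ψ ∈ D.R
    · right; right; left; rw [D.deg ψ h3, hdD]; norm_num
    by_cases h4 : ψ ∈ E.R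
    · right; right; right; right; left; rw [E.deg ψ h4, hx]; norm_num
    · have h6 : ψ ∈ O := Finset.mem_filter.2 ⟨Finset.mem_univ _, h1, h2, h3, h4, Finset.notMem_empty _⟩
      rcases hno ψ h6 with h | h
      · right; right; right; left
        rw [hw ψ h6, h.1]; norm_num
      · right; right; right; right; right
        rw [hw ψ h6, h.1]; norm_num
  · push_cast
    rintro (h | h | h | h | h | h)
    · exact ⟨one G, by rw [deg_one]; omega⟩
    · exact ⟨St, by rw [St1]; omega⟩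
    · exact ⟨ψD, by rw [D.deg ψD hψD, hdD]; omega⟩
    · refine ⟨ψ13, ?_⟩
      have h6 := hw ψ13 hψ13
      rw [hw13] at h6
      omega
    · exact ⟨ψE, by rw [E.deg ψE hψE]; omega⟩
    · refine ⟨ψ2, ?_⟩
      have h6 := hw ψ2 hψ2
      rw [hw2] at h6
      omega

end Cfsg.Agent.H678.SuzChar
end

-- part: H678/ZassTorus
section
/-!
# The two-point stabilizer of a Zassenhaus group of odd degree

It is a CC-subgroup with `|N(T)| = 2|T|` if it is abelian of odd order; the values of the Steinberg character.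
-/

set_option autoImplicit false

open scoped ComplexConjugate
open Cfsg MulAction

namespace Cfsg.Agent.H678.ZassTorus

open Cfsg.Agent.Characters.CCBasic Cfsg.Agent.Characters.CCEstimates

universe u v

variable {G : Type u} {X : Type v} [Group G] [MulAction G X]

section fixed

variable (h3 : ∀ g : G, ∀ a b c : X, a ≠ b → b ≠ c → a ≠ c → g • a = a → g • b = b → g • c = c → g = 1)
  {x y : X} (hxy : x ≠ y)

include h3 hxy

theorem fixed_eq {t : G} (ht : t ∈ stabilizer G x ⊓ stabilizer G y) (ht1 : t ≠ 1) {z : X}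
    (hz : t • z = z) : z = x ∨ z = y := by
  by_contra hno
  push Not at hno
  exact ht1 (h3 t x y z hxy (Ne.symm hno.2) (Ne.symm hno.1) ht.1 ht.2 hz)

/-- An element of odd order normalizing... a swap does not centralize anything. -/
theorem no_swap [Finite G] [Finite X] (hX : Odd (Nat.card X)) (h2 : IsMultiplyPretransitive G X 2)
    (hodd : Odd (Nat.card ↥(stabilizer G x ⊓ stabilizer G y))) {t g : G}
    (ht : t ∈ stabilizer G x ⊓ stabilizer G y) (ht1 : t ≠ 1) (hgt : g * t = t * g)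
    (hgx : g • x = y) (hgy : g • y = x) : False := by
  classical
  have : Fintype X := Fintype.ofFinite X
  -- a power of `g` of `2`-power order which swaps
  obtain ⟨n, k, hk, hgn⟩ : ∃ n k : ℕ, Odd k ∧ g ^ (k * 2 ^ n) = 1 := by
    obtain ⟨n, k, hk, he⟩ := Nat.exists_eq_two_pow_mul_odd (orderOf_pos g).ne'
    exact ⟨n, k, hk, by rw [mul_comm, ← he, pow_orderOf_eq_one]⟩
  have hsw : ∀ k : ℕ, Odd k → (g ^ k) • x = y ∧ (g ^ k) • y = x := by
    rintro k ⟨j, rfl⟩
    induction j with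
    | zero => simp [hgx, hgy]
    | succ j ih =>
      have h1 : g ^ (2 * (j + 1) + 1) = g * (g * g ^ (2 * j + 1)) := by
        rw [← mul_assoc, ← pow_two, ← pow_add]
        congr 1
        ring
      rw [h1, mul_smul, mul_smul, mul_smul, mul_smul, ih.1, ih.2, hgx, hgy]
      exact ⟨hgx, rfl⟩
  obtain ⟨hsx, hsy⟩ := hsw k hk
  set s := g ^ k with hs
  have hs2 : s ^ 2 ^ n = 1 := by rw [hs, ← pow_mul, hgn]
  have hst : s * t = t * s := (Commute.pow_left hgt k).eq
  obtain ⟨z, hz⟩ : ∃ z : X, s • z = z := by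
    have hα : ¬ 2 ∣ Fintype.card X := by
      rw [← Nat.card_eq_fintype_card]
      exact hX.not_two_dvd_nat
    have : Fact (Nat.Prime 2) := ⟨Nat.prime_two⟩
    obtain ⟨z, hz⟩ := Equiv.Perm.exists_fixed_point_of_prime (p := 2) (n := n) hα
      (σ := MulAction.toPermHom G X s) (by rw [← map_pow, hs2, map_one])
    exact ⟨z, hz⟩
  have hz1 : s • (t • z) = t • z := by rw [← mul_smul, hst, mul_smul, hz]
  have hzx : z ≠ x := by
    rintro rfl
    exact hxy (hz.symm.trans hsx)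
  have hzy : z ≠ y := by
    rintro rfl
    exact hxy (hsy.symm.trans hz)
  have htz : t • z ≠ z := by
    intro h
    rcases fixed_eq h3 hxy ht ht1 h with h | h
    · exact hzx h
    · exact hzy h
  obtain ⟨h, hhx, hhy⟩ := (is_two_pretransitive_iff).1 h2 hxy htz
  have hT : h⁻¹ * s * h ∈ stabilizer G x ⊓ stabilizer G y := by
    constructor
    · show (h⁻¹ * s * h) • x = x
      rw [mul_smul, mul_smul, hhx, hz1, ← hhx, inv_smul_smul]
    · show (h⁻¹ * s * h) • y = y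
      rw [mul_smul, mul_smul, hhy, hz, ← hhy, inv_smul_smul]
  have ho : orderOf (h⁻¹ * s * h) ∣ Nat.card ↥(stabilizer G x ⊓ stabilizer G y) :=
    Subgroup.orderOf_dvd_natCard _ hT
  have hs' : orderOf (h⁻¹ * s * h) ∣ 2 ^ n := by
    apply orderOf_dvd_of_pow_eq_one
    have h4 := conj_pow (i := 2 ^ n) (a := h⁻¹) (b := s)
    rw [inv_inv] at h4
    rw [h4, hs2]
    simp
  have hcop : Nat.Coprime (Nat.card ↥(stabilizer G x ⊓ stabilizer G y)) (2 ^ n) :=
    Nat.Coprime.pow_right _ (Nat.coprime_two_right.2 hodd)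
  have h5 := orderOf_eq_one_iff.1 (Nat.eq_one_of_dvd_coprimes hcop ho hs')
  have h6 : s = 1 := by
    have : s = h * (h⁻¹ * s * h) * h⁻¹ := by group
    rw [this, h5]
    group
  rw [h6, one_smul] at hsx
  exact hxy hsx

theorem isCC [Finite G] [Finite X] (hX : Odd (Nat.card X)) (h2 : IsMultiplyPretransitive G X 2)
    (hodd : Odd (Nat.card ↥(stabilizer G x ⊓ stabilizer G y)))
    (hne : stabilizer G x ⊓ stabilizer G y ≠ ⊥)
    (hcomm : ∀ a ∈ stabilizer G x ⊓ stabilizer G y, ∀ b ∈ stabilizer G x ⊓ stabilizer G y, a * b = b * a) :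
    IsCC (stabilizer G x ⊓ stabilizer G y) := by
  refine ⟨hne, fun t ht ht1 => le_antisymm ?_ ?_⟩
  · intro g hg
    rw [Subgroup.mem_centralizer_singleton_iff] at hg
    have h1 : ∀ z : X, t • z = z → t • (g • z) = g • z := by
      intro z hz
      rw [← mul_smul, ← hg, mul_smul, hz]
    rcases fixed_eq h3 hxy ht ht1 (h1 x ht.1) with hx | hx
    · rcases fixed_eq h3 hxy ht ht1 (h1 y ht.2) with hy | hy
      · exact absurd (smul_left_cancel g (hx.trans hy.symm)) hxy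
      · exact ⟨hx, hy⟩
    · rcases fixed_eq h3 hxy ht ht1 (h1 y ht.2) with hy | hy
      · exact (no_swap h3 hxy hX h2 hodd ht ht1 hg hx hy).elim
      · exact absurd (smul_left_cancel g (hx.trans hy.symm)) hxy
  · intro g hg
    rw [Subgroup.mem_centralizer_singleton_iff]
    exact hcomm g hg t ht

theorem len_eq [Finite G] (h2 : IsMultiplyPretransitive G X 2)
    (hne : stabilizer G x ⊓ stabilizer G y ≠ ⊥) : len (stabilizer G x ⊓ stabilizer G y) = 2 := by
  set T := stabilizer G x ⊓ stabilizer G y with hT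
  obtain ⟨t, ht, ht1⟩ := (Subgroup.ne_bot_iff_exists_ne_one.1 hne).elim
    (fun y hy => (⟨y, y.2, fun h => hy (Subtype.ext h)⟩ : ∃ y ∈ T, y ≠ 1))
  obtain ⟨s, hsx, hsy⟩ := (is_two_pretransitive_iff).1 h2 hxy (Ne.symm hxy)
  have hN : ∀ g ∈ Subgroup.normalizer (T : Set G), (g • x = x ∧ g • y = y) ∨ (g • x = y ∧ g • y = x) := by
    intro g hg
    have h1 : g⁻¹ * t * g ∈ T := by
      rw [Subgroup.mem_normalizer_iff''] at hg
      exact (hg t).1 ht
    have h4 : ∀ z : X, (g⁻¹ * t * g) • z = z → t • (g • z) = g • z := by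
      intro z hz
      have : g • ((g⁻¹ * t * g) • z) = g • z := by rw [hz]
      rw [← mul_smul, ← this, ← mul_smul]
      congr 1
      group
    rcases fixed_eq h3 hxy ht ht1 (h4 x h1.1) with hx | hx
    · rcases fixed_eq h3 hxy ht ht1 (h4 y h1.2) with hy | hy
      · exact absurd (smul_left_cancel g (hx.trans hy.symm)) hxy
      · exact Or.inl ⟨hx, hy⟩
    · rcases fixed_eq h3 hxy ht ht1 (h4 y h1.2) with hy | hy
      · exact Or.inr ⟨hx, hy⟩
      · exact absurd (smul_left_cancel g (hx.trans hy.symm)) hxy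
  have hsN : s ∈ Subgroup.normalizer (T : Set G) := by
    have h5 : ∀ g : G, g • x = y → g • y = x → ∀ n ∈ T, g * n * g⁻¹ ∈ T := by
      intro g h1 h4 n hn
      have h6 : g⁻¹ • x = y := by rw [← h4, inv_smul_smul]
      have h7 : g⁻¹ • y = x := by rw [← h1, inv_smul_smul]
      constructor
      · show (g * n * g⁻¹) • x = x
        rw [mul_smul, mul_smul, h6, show n • y = y from hn.2, h4]
      · show (g * n * g⁻¹) • y = y
        rw [mul_smul, mul_smul, h7, show n • x = x from hn.1, h1]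
    rw [Subgroup.mem_normalizer_iff]
    intro n
    refine ⟨fun hn => h5 s hsx hsy n hn, fun hn => ?_⟩
    have h6 := h5 s⁻¹ (by rw [← hsy, inv_smul_smul]) (by rw [← hsx, inv_smul_smul]) _ hn
    have h7 : s⁻¹ * (s * n * s⁻¹) * s⁻¹⁻¹ = n := by group
    rwa [h7] at h6
  have hle : T ≤ Subgroup.normalizer (T : Set G) := Subgroup.le_normalizer
  have hidx : (T.subgroupOf (Subgroup.normalizer (T : Set G))).index = 2 := by
    rw [Subgroup.index_eq_two_iff]
    refine ⟨⟨s, hsN⟩, fun b => ?_⟩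
    rw [Subgroup.mem_subgroupOf, Subgroup.mem_subgroupOf]
    rcases hN b b.2 with ⟨h1, h4⟩ | ⟨h1, h4⟩
    · right
      refine ⟨⟨h1, h4⟩, fun h => ?_⟩
      have h5 : (b : G) • (s • x) = x := by
        have := h.1
        rw [Subgroup.coe_mul] at this
        rw [← mul_smul]; exact this
      rw [hsx, h4] at h5
      exact hxy h5.symm
    · left
      refine ⟨⟨?_, ?_⟩, fun h => ?_⟩
      · show ((b * ⟨s, hsN⟩ : Subgroup.normalizer (T : Set G)) : G) • x = x
        rw [Subgroup.coe_mul, mul_smul, hsx, h4]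
      · show ((b * ⟨s, hsN⟩ : Subgroup.normalizer (T : Set G)) : G) • y = y
        rw [Subgroup.coe_mul, mul_smul, hsy, h1]
      · exact hxy ((show (b : G) • x = x from h.1).symm.trans h1)
  have hcard := Subgroup.card_mul_index (T.subgroupOf (Subgroup.normalizer (T : Set G)))
  rw [hidx, Nat.card_congr (Subgroup.subgroupOfEquivOfLe hle).toEquiv] at hcard
  rw [len, ← hcard, Nat.mul_div_cancel_left _ Nat.card_pos]

end fixed

end Cfsg.Agent.H678.ZassTorus
end

-- part: H678/SuzDegs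
section
/-!
# The character degrees of the Suzuki groups
-/

set_option autoImplicit false

open scoped ComplexConjugate
open Cfsg MulAction

namespace Cfsg.Agent.H678.SuzDegs

open Cfsg.Agent.Characters.CCBasic Cfsg.Agent.Characters.CCEstimates Cfsg.Agent.H678.CCExact
  Cfsg.Agent.H678.SuzChar Cfsg.Agent.H355.SzFix

universe u

variable {F : Type u} [Field F] {m : ℕ}

theorem T_eq : (stabilizer (Sz F m) (inf F m) ⊓ stabilizer (Sz F m) (zer F m) : Subgroup (Sz F m)) =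
    stabilizer (Sz F m) (suzukiPointInfinity F) ⊓ stabilizer (Sz F m) (suzukiPointZero F) := by
  ext g
  simp only [Subgroup.mem_inf, mem_stabilizer_iff]
  exact and_congr ⟨fun h => congrArg Subtype.val h, fun h => Subtype.ext h⟩
    ⟨fun h => congrArg Subtype.val h, fun h => Subtype.ext h⟩

theorem degs [Fintype F] (hm : 1 ≤ m) (hF : Fintype.card F = 2 ^ (2 * m + 1)) : Degs (Sz F m) (2 ^ (m - 1)) := by
  classical
  obtain ⟨n, rfl⟩ : ∃ n, m = n + 1 := ⟨m - 1, by omega⟩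
  rw [Nat.add_sub_cancel]
  obtain ⟨k, hk⟩ : ∃ k, k = 2 ^ n := ⟨_, rfl⟩
  rw [← hk]
  have hk1 : 1 ≤ k := hk ▸ Nat.one_le_two_pow
  have hq : 2 ^ (2 * (n + 1) + 1) = 8 * k ^ 2 := by
    rw [hk, ← pow_mul, show (8 : ℕ) = 2 ^ 3 by norm_num, ← pow_add]
    congr 1
    ring
  have hr : 2 ^ (n + 1 + 1) = 4 * k := by
    rw [hk, pow_succ, pow_succ]
    ring
  have hk2 : 1 ≤ k ^ 2 := Nat.one_le_pow _ _ hk1
  have hkz : (1 : ℤ) ≤ k := by exact_mod_cast hk1
  have : Fintype (Sz F (n + 1)) := Fintype.ofFinite _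
  have : Finite (IrrCharacter (Sz F (n + 1))) := Characters.Core.finite_irr
  have : Fintype (IrrCharacter (Sz F (n + 1))) := Fintype.ofFinite _
  have hXcard : Nat.card (suzukiOvoid F (n + 1)) = 64 * k ^ 4 + 1 := by
    rw [S0326.result, hF, hq]; ring
  have : Finite (suzukiOvoid F (n + 1)) := Nat.finite_of_card_ne_zero (by rw [hXcard]; omega)
  obtain ⟨-, h2, h3, -, -⟩ := S0327.result hm hF
  have : IsPretransitive (Sz F (n + 1)) (suzukiOvoid F (n + 1)) := by
    have h21 : IsMultiplyPretransitive (Sz F (n + 1)) (suzukiOvoid F (n + 1)) 1 :=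
      isMultiplyPretransitive_of_le (n := 2) (by norm_num) (by
        rw [hXcard]
        have : 1 ≤ k ^ 4 := Nat.one_le_pow _ _ hk1
        omega)
    exact is_one_pretransitive_iff.1 h21
  have hXodd : Odd (Nat.card (suzukiOvoid F (n + 1))) := by
    rw [hXcard]
    exact ⟨32 * k ^ 4, by ring⟩
  have hxy : inf F (n + 1) ≠ zer F (n + 1) := inf_ne_zer
  set T := (stabilizer (Sz F (n + 1)) (inf F (n + 1)) ⊓ stabilizer (Sz F (n + 1)) (zer F (n + 1)) :
    Subgroup (Sz F (n + 1))) with hT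
  obtain ⟨eT⟩ : Nonempty (T ≃* Fˣ) := by
    rw [hT, T_eq]
    exact S0328.result hm hF
  have cT : Nat.card T + 1 = 8 * k ^ 2 := by
    rw [Nat.card_congr eT.toEquiv, Nat.card_eq_fintype_card, Fintype.card_units, hF, hq]
    omega
  have hTodd : Odd (Nat.card T) := by
    refine ⟨4 * k ^ 2 - 1, ?_⟩
    omega
  have hTne : T ≠ ⊥ := by
    intro h
    rw [h, Subgroup.card_bot] at cT
    omega
  have hTcomm : ∀ a ∈ T, ∀ b ∈ T, a * b = b * a := by
    intro a ha b hb
    have h : (⟨a, ha⟩ : T) * ⟨b, hb⟩ = ⟨b, hb⟩ * ⟨a, ha⟩ := by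
      apply eT.injective
      rw [map_mul, map_mul, mul_comm]
    exact congrArg Subtype.val h
  have hTcc : IsCC T := ZassTorus.isCC h3 hxy hXodd h2 hTodd hTne hTcomm
  have hTlen : len T = 2 := ZassTorus.len_eq h3 hxy h2 hTne
  -- the two other tori
  have htor : ∀ c : ℕ, c ∈ ({2 ^ (2 * (n + 1) + 1) + 2 ^ (n + 1 + 1) + 1,
      2 ^ (2 * (n + 1) + 1) - 2 ^ (n + 1 + 1) + 1} : Set ℕ) → 2 ≤ c →
      ∃ U : Subgroup (Sz F (n + 1)), Nat.card U = c ∧ IsCC U ∧ len U = 4 := by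
    intro c hc hc2
    obtain ⟨U, -, hU, hcent, hN⟩ := S0333.result hm hF c hc
    refine ⟨U, hU, ⟨?_, hcent⟩, ?_⟩
    · rintro rfl
      rw [Subgroup.card_bot] at hU
      omega
    · rw [len, hN, hU, Nat.mul_div_cancel _ (by omega)]
  obtain ⟨A, cA, hAcc, hAlen⟩ := htor (8 * k ^ 2 + 4 * k + 1) (by left; rw [hq, hr]) (by omega)
  have hge : 4 * k ≤ 8 * k ^ 2 := by nlinarith
  obtain ⟨B, cB, hBcc, hBlen⟩ := htor (8 * k ^ 2 - 4 * k + 1) (by right; rw [hq, hr]; rfl) (by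
    have : 4 * k + 1 ≤ 8 * k ^ 2 := by nlinarith
    omega)
  have cTz : (Nat.card T : ℤ) = 8 * k ^ 2 - 1 := by
    have : ((Nat.card T + 1 : ℕ) : ℤ) = ((8 * k ^ 2 : ℕ) : ℤ) := by rw [cT]
    push_cast at this
    linarith
  have cAz : (Nat.card A : ℤ) = 8 * k ^ 2 + 4 * k + 1 := by rw [cA]; push_cast; ring
  have cBz : (Nat.card B : ℤ) = 8 * k ^ 2 - 4 * k + 1 := by rw [cB]; push_cast [hge]; ring
  have hGz : (Nat.card (Sz F (n + 1)) : ℤ) = 64 * k ^ 4 * (64 * k ^ 4 + 1) * (8 * k ^ 2 - 1) := by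
    rw [S0324.result hm hF, hq]
    have : 1 ≤ 8 * k ^ 2 := by omega
    push_cast [this]
    ring
  -- the Steinberg character
  have hXc2 : 2 ≤ Nat.card (suzukiOvoid F (n + 1)) := by
    rw [hXcard]
    have : 1 ≤ k ^ 4 := Nat.one_le_pow _ _ hk1
    omega
  have hSt := (S0157.result (G := Sz F (n + 1)) (suzukiOvoid F (n + 1)) hXc2).2 h2
  set St : IrrCharacter (Sz F (n + 1)) := ⟨_, hSt⟩ with hStdef
  have hStv : ∀ g : Sz F (n + 1), (St : Sz F (n + 1) → ℂ) g =
    (Nat.card (fixedBy (suzukiOvoid F (n + 1)) g) : ℂ) - 1 := fun g => rfl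
  have St1 : charDegree (St : Sz F (n + 1) → ℂ) = 64 * k ^ 4 := by
    have h := H686.CharKit.charDegree_irr St
    rw [hStv, fixedBy_one_eq_univ, Nat.card_coe_set_eq, Set.ncard_univ, hXcard] at h
    push_cast at h
    have h' : (charDegree (St : Sz F (n + 1) → ℂ) : ℂ) = ((64 * k ^ 4 : ℕ) : ℂ) := by
      rw [h]; push_cast; ring
    exact_mod_cast h'
  have hStT : ∀ a ∈ T, a ≠ 1 → (St : Sz F (n + 1) → ℂ) a = 1 := by
    intro a ha ha1
    rw [hStv]
    have h : fixedBy (suzukiOvoid F (n + 1)) a = {inf F (n + 1), zer F (n + 1)} := by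
      ext z
      constructor
      · intro hz
        exact ZassTorus.fixed_eq h3 hxy ha ha1 hz
      · rintro (rfl | rfl)
        · exact ha.1
        · exact ha.2
    rw [h, Nat.card_coe_set_eq, Set.ncard_pair hxy]
    norm_num
  have hStab : ∀ z : suzukiOvoid F (n + 1),
      (Nat.card (stabilizer (Sz F (n + 1)) z) : ℤ) = 64 * k ^ 4 * (8 * k ^ 2 - 1) := by
    intro z
    have h := Subgroup.card_mul_index (stabilizer (Sz F (n + 1)) z)
    rw [MulAction.index_stabilizer_of_transitive, hXcard] at h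
    have h' : (Nat.card (stabilizer (Sz F (n + 1)) z) : ℤ) * (64 * k ^ 4 + 1) =
        64 * k ^ 4 * (64 * k ^ 4 + 1) * (8 * k ^ 2 - 1) := by
      rw [← hGz]
      exact_mod_cast h
    have h0 : (64 * (k : ℤ) ^ 4 + 1) ≠ 0 := by positivity
    apply mul_right_cancel₀ h0
    rw [h']
    ring
  have hStU : ∀ U : Subgroup (Sz F (n + 1)), IsCoprime (Nat.card U : ℤ) (64 * (k : ℤ) ^ 4 * (8 * k ^ 2 - 1)) →
      ∀ a ∈ U, a ≠ 1 → (St : Sz F (n + 1) → ℂ) a = -1 := by
    intro U hU a ha ha1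
    rw [hStv]
    have h : fixedBy (suzukiOvoid F (n + 1)) a = ∅ := by
      rw [Set.eq_empty_iff_forall_notMem]
      intro z hz
      have h1 : orderOf a ∣ Nat.card U := Subgroup.orderOf_dvd_natCard _ ha
      have h4 : orderOf a ∣ Nat.card (stabilizer (Sz F (n + 1)) z) :=
        Subgroup.orderOf_dvd_natCard (stabilizer (Sz F (n + 1)) z) hz
      rw [← hStab z] at hU
      have h5 := Nat.isCoprime_iff_coprime.1 hU
      exact ha1 (orderOf_eq_one_iff.1 (Nat.eq_one_of_dvd_coprimes h5 h1 h4))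
    rw [h, Nat.card_coe_set_eq, Set.ncard_empty]
    norm_num
  have hStA := hStU A (by
    rw [cAz]
    have h2 : IsCoprime (8 * (k : ℤ) ^ 2 + 4 * k + 1) 2 := ⟨1, -(4 * k ^ 2 + 2 * k), by ring⟩
    have hk' : IsCoprime (8 * (k : ℤ) ^ 2 + 4 * k + 1) (k : ℤ) := ⟨1, -(8 * k + 4), by ring⟩
    have h3 : IsCoprime (8 * (k : ℤ) ^ 2 + 4 * k + 1) (8 * (k : ℤ) ^ 2 - 1) := ⟨-(2 * k - 1), 2 * k, by ring⟩
    have h64 : (64 : ℤ) = 2 ^ 6 := by norm_num
    rw [h64]
    exact ((h2.pow_right).mul_right hk'.pow_right).mul_right h3)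
  have hStB := hStU B (by
    rw [cBz]
    have h2 : IsCoprime (8 * (k : ℤ) ^ 2 - 4 * k + 1) 2 := ⟨1, -(4 * k ^ 2 - 2 * k), by ring⟩
    have hk' : IsCoprime (8 * (k : ℤ) ^ 2 - 4 * k + 1) (k : ℤ) := ⟨1, -(8 * k - 4), by ring⟩
    have h3 : IsCoprime (8 * (k : ℤ) ^ 2 - 4 * k + 1) (8 * (k : ℤ) ^ 2 - 1) := ⟨2 * k + 1, -(2 * k), by ring⟩
    have h64 : (64 : ℤ) = 2 ^ 6 := by norm_num
    rw [h64]
    exact ((h2.pow_right).mul_right hk'.pow_right).mul_right h3)
  rcases Nat.lt_or_ge n 1 with hn | hn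
  · -- `q = 8`
    have hn0 : n = 0 := by omega
    subst hn0
    rw [pow_zero] at hk
    subst hk
    obtain ⟨D⟩ := nonempty_ccData hTcc hTlen (s := 3) (by omega) (by norm_num)
    obtain ⟨E⟩ := nonempty_ccData hAcc hAlen (s := 3) (by omega) (by norm_num)
    have hG : Nat.card (Sz F (0 + 1)) = 29120 := by
      have : (Nat.card (Sz F (0 + 1)) : ℤ) = 29120 := by rw [hGz]; norm_num
      exact_mod_cast this
    exact degs_one hG D E (by omega) (by omega) St (by omega) hStT hStA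
  · have hk2' : 2 ≤ k := by
      rw [hk]
      calc 2 = 2 ^ 1 := rfl
        _ ≤ _ := Nat.pow_le_pow_right (by norm_num) hn
    obtain ⟨D⟩ := nonempty_ccData hTcc hTlen (s := 4 * k ^ 2 - 1) (by omega) (by omega)
    obtain ⟨E⟩ := nonempty_ccData hAcc hAlen (s := k * (2 * k + 1)) (by rw [cA]; ring) (by nlinarith)
    have h2k : 1 ≤ 2 * k := by omega
    obtain ⟨E'⟩ := nonempty_ccData hBcc hBlen (s := k * (2 * k - 1)) (by
      rw [cB]
      zify [h2k, hge]
      ring) (by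
      calc 2 = 2 * 1 := rfl
        _ ≤ _ := Nat.mul_le_mul hk2' (by omega))
    refine degs_of_two_le hk2' hGz D E E' ?_ ?_ ?_ cTz cAz cBz St (by rw [St1]; push_cast; ring) hStT hStA hStB
    · have : 1 ≤ 4 * k ^ 2 := by omega
      push_cast [this]; ring
    · push_cast; ring
    · have : 1 ≤ 2 * k := by omega
      push_cast [this]; ring

end Cfsg.Agent.H678.SuzDegs
end
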