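import Cfsg.Agent.H678.CCData
import Cfsg.Agent.H678.Codeg
set_option linter.all false

/-!
# The character degrees of a group which looks like a Suzuki group

`q = 8 k²`.
-/

set_option autoImplicit false
set_option linter.unusedSectionVars false

open scoped ComplexConjugate
open Cfsg

namespace Cfsg.Agent.H678.SuzChar

open Cfsg.Agent.Characters Cfsg.Agent.Characters.CCBasic Cfsg.Agent.Characters.CCValues
  Cfsg.Agent.Characters.CCEstimates Cfsg.Agent.H678.CCExact Finset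

universe u

section split

variable {α : Type*} [Fintype α] [DecidableEq α]

theorem split {x y : α} (hxy : x ≠ y) {P Q R : Finset α} (hxP : x ∉ P) (hxQ : x ∉ Q) (hxR : x ∉ R)
    (hyP : y ∉ P) (hyQ : y ∉ Q) (hyR : y ∉ R) (hPQ : ∀ a ∈ P, a ∉ Q) (hPR : ∀ a ∈ P, a ∉ R)
    (hQR : ∀ a ∈ Q, a ∉ R) (g : α → ℤ) :
    ∑ a, g a = g x + g y + ∑ a ∈ P, g a + ∑ a ∈ Q, g a + ∑ a ∈ R, g a +
      ∑ a ∈ univ.filter (fun a => a ≠ x ∧ a ≠ y ∧ a ∉ P ∧ a ∉ Q ∧ a ∉ R), g a := by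
  have h : ∀ a, g a = (if a = x then g a else 0) + (if a = y then g a else 0) +
      (if a ∈ P then g a else 0) + (if a ∈ Q then g a else 0) + (if a ∈ R then g a else 0) +
      (if a ≠ x ∧ a ≠ y ∧ a ∉ P ∧ a ∉ Q ∧ a ∉ R then g a else 0) := by
    intro a
    by_cases h1 : a = x
    · subst h1; simp [hxy, hxP, hxQ, hxR]
    by_cases h2 : a = y
    · subst h2; simp [Ne.symm hxy, hyP, hyQ, hyR]
    by_cases h3 : a ∈ P
    · simp [h1, h2, h3, hPQ a h3, hPR a h3]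
    by_cases h4 : a ∈ Q
    · simp [h1, h2, h3, h4, hQR a h4]
    by_cases h5 : a ∈ R
    · simp [h1, h2, h3, h4, h5]
    · simp [h1, h2, h3, h4, h5]
  rw [Finset.sum_congr rfl (fun a _ => h a)]
  simp only [Finset.sum_add_distrib]
  congr 1
  · congr 1
    · congr 1
      · congr 1
        · congr 1 <;> simp
        · simp
      · simp
    · simp
  · rw [Finset.sum_filter]

end split

variable {G : Type u} [Group G]

theorem not_conj {A B : Subgroup G} (h : (Nat.card A).Coprime (Nat.card B)) :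
    ∀ x ∈ A, x ≠ 1 → ∀ y ∈ B, ¬ IsConj x y := by
  intro x hx hx1 y hy hxy
  have h1 : orderOf x ∣ Nat.card A := Subgroup.orderOf_dvd_natCard A hx
  have h2 : orderOf y ∣ Nat.card B := Subgroup.orderOf_dvd_natCard B hy
  obtain ⟨c, hc⟩ := isConj_iff.1 hxy
  have h3 : orderOf y = orderOf x := by
    rw [← hc]
    have := orderOf_injective (MulAut.conj c).toMonoidHom (MulAut.conj c).injective x
    simpa using this
  rw [h3] at h2
  have h4 := Nat.eq_one_of_dvd_coprimes h h1 h2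
  exact hx1 (orderOf_eq_one_iff.1 h4)

theorem deg_one : charDegree ((one G : IrrCharacter G) : G → ℂ) = 1 := by
  have h := H686.CharKit.charDegree_irr (one G)
  rw [coe_one] at h
  have h1 : ((charDegree ((one G : IrrCharacter G) : G → ℂ) : ℕ) : ℂ) = 1 := by
    rw [coe_one]; exact h
  exact_mod_cast h1

variable [Fintype (IrrCharacter G)]

/-- A character with a constant integral value on `A#`. -/
theorem const {A : Subgroup G} {s e : ℕ} (D : CCData A s e) (hA : A ≠ ⊥) {ψ : IrrCharacter G} {z : ℤ}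
    (h : ∀ a ∈ A, a ≠ 1 → (ψ : G → ℂ) a = z) : ψ ∉ D.R ∧ D.f ψ = z := by
  have h1 : ψ ∉ D.R := by
    intro hψ
    obtain ⟨a, ha, ha1, h2⟩ := D.nonconst ψ hψ z
    exact h2 (h a ha ha1)
  refine ⟨h1, ?_⟩
  obtain ⟨y, hy, hy1⟩ := (Subgroup.ne_bot_iff_exists_ne_one.1 hA).elim
    (fun y hy => (⟨y, y.2, fun h => hy (Subtype.ext h)⟩ : ∃ y ∈ A, y ≠ 1))
  have h2 := D.hf ψ h1 y hy hy1
  rw [h y hy hy1] at h2
  exact_mod_cast h2.symm

theorem lower {A : Subgroup G} {s e : ℕ} (D : CCData A s e) {χ₁ χ₂ : IrrCharacter G} (hne : χ₁ ≠ χ₂)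
    (h1 : D.f χ₁ ^ 2 = 1) (h2 : D.f χ₂ ^ 2 = 1) {R' : Finset (IrrCharacter G)} {z : ℤ}
    (hR' : ∀ ψ ∈ R', D.f ψ = z) (n1 : χ₁ ∉ R') (n2 : χ₂ ∉ R') :
    2 + R'.card * z ^ 2 ≤ ∑ ψ, D.f ψ ^ 2 := by
  classical
  calc 2 + R'.card * z ^ 2 = ∑ ψ ∈ insert χ₁ (insert χ₂ R'), D.f ψ ^ 2 := by
        rw [Finset.sum_insert (by simp [hne, n1]), Finset.sum_insert n2, h1, h2,
          Finset.sum_congr rfl (fun ψ hψ => by rw [hR' ψ hψ]), Finset.sum_const, nsmul_eq_mul]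
        ring
    _ ≤ _ := Finset.sum_le_sum_of_subset_of_nonneg (Finset.subset_univ _) fun _ _ _ => sq_nonneg _

theorem c_eq_zero {A : Subgroup G} {s e : ℕ} (D : CCData A s e) {χ₁ χ₂ : IrrCharacter G} (hne : χ₁ ≠ χ₂)
    (h1 : D.f χ₁ ^ 2 = 1) (h2 : D.f χ₂ ^ 2 = 1) (he : 2 ≤ e) (hs : e < s) : D.c = 0 := by
  have h3 := lower D hne h1 h2 (R' := ∅) (z := 0) (by simp) (by simp) (by simp)
  have h4 := D.sq
  have he' : (2 : ℤ) ≤ e := by exact_mod_cast he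
  have hs' : (e : ℤ) + 1 ≤ s := by exact_mod_cast hs
  rw [Finset.card_empty] at h3
  have h5 : (s : ℤ) * D.c ^ 2 ≤ e - 2 + 2 * D.ε * D.c := by
    have : (2 : ℤ) ≤ ∑ ψ, D.f ψ ^ 2 := by simpa using h3
    linarith
  by_contra hc
  have h6 : 1 ≤ D.c ^ 2 := by
    have := sq_nonneg D.c
    have h7 : D.c ^ 2 ≠ 0 := pow_ne_zero 2 hc
    omega
  have h8 : D.ε * D.c ≤ D.c ^ 2 := by
    rcases D.hε with h | h
    · rw [h]
      by_contra h9
      push Not at h9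
      rcases lt_or_ge D.c 1 with h10 | h10
      · nlinarith
      · nlinarith
    · rw [h]
      by_contra h9
      push Not at h9
      rcases lt_or_ge (-1) D.c with h10 | h10
      · nlinarith
      · nlinarith
  have h9 : (s : ℤ) * D.c ^ 2 ≤ e * D.c ^ 2 := by
    have h10 : (e : ℤ) - 2 ≤ (e - 2) * D.c ^ 2 := by nlinarith
    linarith
  nlinarith

/-- The degrees of the characters of the Suzuki group `Sz(q)`, `q = 8 k²`. -/
def Degs (G : Type u) [Group G] (k : ℕ) : Prop :=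
  ∀ d : ℕ, (∃ ψ : IrrCharacter G, charDegree (ψ : G → ℂ) = d) ↔
    ((d : ℤ) = 1 ∨ (d : ℤ) = 64 * k ^ 4 ∨ (d : ℤ) = 64 * k ^ 4 + 1 ∨
      (d : ℤ) = (8 * k ^ 2 - 1) * (8 * k ^ 2 + 4 * k + 1) ∨
      (d : ℤ) = (8 * k ^ 2 - 1) * (8 * k ^ 2 - 4 * k + 1) ∨ (d : ℤ) = (8 * k ^ 2 - 1) * (2 * k))

theorem ar1 {K : ℤ} (hkz : 2 ≤ K) : 4 * K ^ 2 ≤ 8 * K ^ 2 - 4 * K + 1 := by nlinarith

theorem ar1' {K : ℤ} (hkz : 2 ≤ K) : 4 * K ^ 2 ≤ 8 * K ^ 2 + 4 * K + 1 := by nlinarith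

theorem ar2 {K : ℤ} (hkz : 2 ≤ K) : 8 * K ^ 2 < 6 * (4 * K ^ 2) ^ 2 := by
  have h3 : 4 ≤ K ^ 2 := by nlinarith
  nlinarith

theorem ar3 {M a b X Y S : ℤ} (h1 : M < a) (h2 : M < b) (h4 : 0 ≤ M) (h3 : 4 ≤ X) (hY : 1 ≤ Y) (hS : 0 ≤ S)
    (h : a * X + b * Y + S = a + b + M) : False := by
  have h5 : a * 4 ≤ a * X := mul_le_mul_of_nonneg_left h3 (by linarith)
  have h6 : b * 1 ≤ b * Y := mul_le_mul_of_nonneg_left hY (by linarith)
  linarith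

theorem ar4 {K : ℤ} (hkz : 2 ≤ K)
    (h : (1 * (8 * K ^ 2 - 4 * K + 1) + 8 * K ^ 2 + 1) ^ 2 ≤ 8 * K ^ 2 * 2) : False := by
  have h1 : 8 * K ^ 2 ≤ 1 * (8 * K ^ 2 - 4 * K + 1) + 8 * K ^ 2 + 1 := by nlinarith
  have h2 := pow_le_pow_left₀ (by positivity) h1 2
  have h3 : 4 ≤ K ^ 2 := by nlinarith
  have h4 : (8 * K ^ 2) ^ 2 ≤ 8 * K ^ 2 * 2 := h2.trans h
  nlinarith

theorem ar5 {x : ℤ} (h : 0 < x) (h2 : x ^ 2 ≤ 2) : x = 1 := by
  have : x < 2 := by nlinarith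
  omega

set_option maxHeartbeats 1000000 in
theorem degs_of_two_le [Fintype G] {k : ℕ} (hk : 2 ≤ k)
    (hG : (Nat.card G : ℤ) = 64 * k ^ 4 * (64 * k ^ 4 + 1) * (8 * k ^ 2 - 1))
    {T A B : Subgroup G} {sT sA sB : ℕ} (D : CCData T sT 2) (E : CCData A sA 4) (F : CCData B sB 4)
    (hsT : (sT : ℤ) = 4 * k ^ 2 - 1) (hsA : (sA : ℤ) = k * (2 * k + 1)) (hsB : (sB : ℤ) = k * (2 * k - 1))
    (cT : (Nat.card T : ℤ) = 8 * k ^ 2 - 1) (cA : (Nat.card A : ℤ) = 8 * k ^ 2 + 4 * k + 1)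
    (cB : (Nat.card B : ℤ) = 8 * k ^ 2 - 4 * k + 1)
    (St : IrrCharacter G) (St1 : (charDegree (St : G → ℂ) : ℤ) = 64 * k ^ 4)
    (hStT : ∀ a ∈ T, a ≠ 1 → (St : G → ℂ) a = 1) (hStA : ∀ a ∈ A, a ≠ 1 → (St : G → ℂ) a = -1)
    (hStB : ∀ a ∈ B, a ≠ 1 → (St : G → ℂ) a = -1) : Degs G k := by
  classical
  have hkz : (2 : ℤ) ≤ k := by exact_mod_cast hk
  generalize hK : (k : ℤ) = K at *
  have hT0 : T ≠ ⊥ := by
    rintro rfl
    rw [Subgroup.card_bot] at cT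
    push_cast at cT
    nlinarith
  have hA0 : A ≠ ⊥ := by
    rintro rfl
    rw [Subgroup.card_bot] at cA
    push_cast at cA
    nlinarith
  have hB0 : B ≠ ⊥ := by
    rintro rfl
    rw [Subgroup.card_bot] at cB
    push_cast at cB
    nlinarith
  -- coprimality
  have copTA : IsCoprime (Nat.card T : ℤ) (Nat.card A : ℤ) :=
    ⟨2 * K, -(2 * K - 1), by rw [cT, cA]; ring⟩
  have copTB : IsCoprime (Nat.card T : ℤ) (Nat.card B : ℤ) :=
    ⟨-(2 * K), 2 * K + 1, by rw [cT, cB]; ring⟩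
  have copAB : IsCoprime (Nat.card A : ℤ) (Nat.card B : ℤ) :=
    ⟨4 * K + 1 - (4 * K ^ 2 + 3 * K + 1), 4 * K ^ 2 + 3 * K + 1, by rw [cA, cB]; ring⟩
  have hTA := not_conj (Nat.isCoprime_iff_coprime.1 copTA)
  have hTB := not_conj (Nat.isCoprime_iff_coprime.1 copTB)
  have hAB := not_conj (Nat.isCoprime_iff_coprime.1 copAB)
  have hBA := not_conj (Nat.isCoprime_iff_coprime.1 copAB.symm)
  have hsT15 : 15 ≤ (sT : ℤ) := by rw [hsT]; nlinarith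
  have hsA6 : 6 ≤ (sA : ℤ) := by rw [hsA]; nlinarith
  have hsB6 : 6 ≤ (sB : ℤ) := by rw [hsB]; nlinarith
  have hsT15' : 15 ≤ sT := by exact_mod_cast hsT15
  have hsA6' : 6 ≤ sA := by exact_mod_cast hsA6
  have hsB6' : 6 ≤ sB := by exact_mod_cast hsB6
  have hne : one G ≠ St := by
    intro h
    rw [← h, deg_one] at St1
    push_cast at St1
    nlinarith [sq_nonneg (K ^ 2 - 1), sq_nonneg K]
  obtain ⟨o1, p1⟩ := const D hT0 (ψ := one G) (z := 1) (fun a _ _ => by rw [coe_one]; simp)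
  obtain ⟨o2, p2⟩ := const E hA0 (ψ := one G) (z := 1) (fun a _ _ => by rw [coe_one]; simp)
  obtain ⟨o3, p3⟩ := const F hB0 (ψ := one G) (z := 1) (fun a _ _ => by rw [coe_one]; simp)
  obtain ⟨t1, u1⟩ := const D hT0 (ψ := St) (z := 1) (fun a ha ha1 => by rw [hStT a ha ha1]; simp)
  obtain ⟨t2, u2⟩ := const E hA0 (ψ := St) (z := -1) (fun a ha ha1 => by rw [hStA a ha ha1]; simp)
  obtain ⟨t3, u3⟩ := const F hB0 (ψ := St) (z := -1) (fun a ha ha1 => by rw [hStB a ha ha1]; simp)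
  have dDE : ∀ a ∈ D.R, a ∉ E.R := fun a ha => D.disjoint E (by omega) hTA ha
  have dDF : ∀ a ∈ D.R, a ∉ F.R := fun a ha => D.disjoint F (by omega) hTB ha
  have dEF : ∀ a ∈ E.R, a ∉ F.R := fun a ha => E.disjoint F (by omega) hAB ha
  have cD : D.c = 0 := c_eq_zero D hne (by rw [p1]; norm_num) (by rw [u1]; norm_num) le_rfl (by omega)
  have cE : E.c = 0 := c_eq_zero E hne (by rw [p2]; norm_num) (by rw [u2]; norm_num) (by norm_num) (by omega)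
  have cF : F.c = 0 := c_eq_zero F hne (by rw [p3]; norm_num) (by rw [u3]; norm_num) (by norm_num) (by omega)
  have sqD : ∑ ψ, D.f ψ ^ 2 = 2 := by have := D.sq; rw [cD] at this; push_cast at this; linarith
  have sqE : ∑ ψ, E.f ψ ^ 2 = 4 := by have := E.sq; rw [cE] at this; push_cast at this; linarith
  have sqF : ∑ ψ, F.f ψ ^ 2 = 4 := by have := F.sq; rw [cF] at this; push_cast at this; linarith
  -- the characters other than `1`, `St` vanish on `T#` or are in `D.R`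
  have fD0 : ∀ ψ, ψ ≠ one G ∧ ψ ≠ St → D.f ψ = 0 := by
    rintro ψ ⟨h1, h2⟩
    have h := lower D hne (by rw [p1]; norm_num) (by rw [u1]; norm_num) (R' := {ψ}) (z := D.f ψ)
      (by simp) (by simpa using Ne.symm h1) (by simpa using Ne.symm h2)
    rw [sqD, Finset.card_singleton] at h
    have h3 := sq_nonneg (D.f ψ)
    have h4 : D.f ψ ^ 2 = 0 := by push_cast at h; linarith
    exact pow_eq_zero_iff (two_ne_zero) |>.1 h4
  have sdD := D.sd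
  rw [cD, Fintype.sum_eq_add (one G) St hne (fun x hx => by rw [fD0 x hx, mul_zero]), p1, u1, deg_one, St1] at sdD
  obtain ⟨hεD, hdD⟩ : D.ε = 1 ∧ (D.d : ℤ) = 64 * K ^ 4 + 1 := by
    have h4 : (0 : ℤ) ≤ K ^ 4 := by positivity
    have h5 : (0 : ℤ) ≤ D.d := Int.natCast_nonneg _
    rcases D.hε with h | h
    · exact ⟨h, by rw [h] at sdD; push_cast at sdD; linarith⟩
    · rw [h] at sdD
      push_cast at sdD
      exfalso
      linarith
  have fE0D : ∀ ψ ∈ D.R, E.f ψ = 0 := by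
    intro ψ hψ
    have h := lower E hne (by rw [p2]; norm_num) (by rw [u2]; norm_num) (R' := D.R) (z := E.f ψ)
      (fun χ hχ => D.f_eq E (by omega) hTA hA0 hχ hψ) o1 t1
    rw [sqE, D.hcard] at h
    by_contra hz
    have h3 : 1 ≤ E.f ψ ^ 2 := by
      have := sq_nonneg (E.f ψ)
      have h7 : E.f ψ ^ 2 ≠ 0 := pow_ne_zero 2 hz
      omega
    nlinarith
  have fE0F : ∀ ψ ∈ F.R, E.f ψ = 0 := by
    intro ψ hψ
    have h := lower E hne (by rw [p2]; norm_num) (by rw [u2]; norm_num) (R' := F.R) (z := E.f ψ)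
      (fun χ hχ => F.f_eq E (by omega) hBA hA0 hχ hψ) o3 t3
    rw [sqE, F.hcard] at h
    by_contra hz
    have h3 : 1 ≤ E.f ψ ^ 2 := by
      have := sq_nonneg (E.f ψ)
      have h7 : E.f ψ ^ 2 ≠ 0 := pow_ne_zero 2 hz
      omega
    nlinarith
  have fF0E : ∀ ψ ∈ E.R, F.f ψ = 0 := by
    intro ψ hψ
    have h := lower F hne (by rw [p3]; norm_num) (by rw [u3]; norm_num) (R' := E.R) (z := F.f ψ)
      (fun χ hχ => E.f_eq F (by omega) hAB hB0 hχ hψ) o2 t2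
    rw [sqF, E.hcard] at h
    by_contra hz
    have h3 : 1 ≤ F.f ψ ^ 2 := by
      have := sq_nonneg (F.f ψ)
      have h7 : F.f ψ ^ 2 ≠ 0 := pow_ne_zero 2 hz
      omega
    nlinarith
  -- divisibility of the degrees
  have hvT : ∀ ψ, ψ ≠ one G → ψ ≠ St → ψ ∉ D.R → (8 * K ^ 2 - 1) ∣ (charDegree (ψ : G → ℂ) : ℤ) := by
    intro ψ h1 h2 h3
    have h := D.dvd ψ h3
    rwa [fD0 ψ ⟨h1, h2⟩, sub_zero, cT] at h
  obtain ⟨ψE, hψE⟩ : E.R.Nonempty := Finset.card_pos.1 (by rw [E.hcard]; omega)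
  obtain ⟨ψF, hψF⟩ : F.R.Nonempty := Finset.card_pos.1 (by rw [F.hcard]; omega)
  obtain ⟨ψD, hψD⟩ : D.R.Nonempty := Finset.card_pos.1 (by rw [D.hcard]; omega)
  have hdE : ∃ x : ℤ, (E.d : ℤ) = (8 * K ^ 2 - 1) * (8 * K ^ 2 - 4 * K + 1) * x := by
    have h1 : (8 * K ^ 2 - 1) ∣ (E.d : ℤ) := by
      rw [← E.deg ψE hψE]
      exact hvT ψE (fun h => o2 (h ▸ hψE)) (fun h => t2 (h ▸ hψE)) (fun h => dDE _ h hψE)
    have h2 : (8 * K ^ 2 - 4 * K + 1) ∣ (E.d : ℤ) := by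
      have h := F.dvd ψE (dEF _ hψE)
      rwa [fF0E ψE hψE, sub_zero, cB, E.deg ψE hψE] at h
    rw [cT, cB] at copTB
    exact copTB.mul_dvd h1 h2
  have hdF : ∃ x : ℤ, (F.d : ℤ) = (8 * K ^ 2 - 1) * (8 * K ^ 2 + 4 * K + 1) * x := by
    have h1 : (8 * K ^ 2 - 1) ∣ (F.d : ℤ) := by
      rw [← F.deg ψF hψF]
      exact hvT ψF (fun h => o3 (h ▸ hψF)) (fun h => t3 (h ▸ hψF)) (fun h => dDF _ h hψF)
    have h2 : (8 * K ^ 2 + 4 * K + 1) ∣ (F.d : ℤ) := by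
      have h := E.dvd ψF (fun h => dEF _ h hψF)
      rwa [fE0F ψF hψF, sub_zero, cA, F.deg ψF hψF] at h
    rw [cT, cA] at copTA
    exact copTA.mul_dvd h1 h2
  obtain ⟨x, hx⟩ := hdE
  obtain ⟨y, hy⟩ := hdF
  have hEpos : (0 : ℤ) < E.d := by
    rw [← E.deg ψE hψE]
    exact_mod_cast H686.CharKit.charDegree_pos ψE
  have hFpos : (0 : ℤ) < F.d := by
    rw [← F.deg ψF hψF]
    exact_mod_cast H686.CharKit.charDegree_pos ψF
  have ht : (0 : ℤ) < 8 * K ^ 2 - 1 := by nlinarith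
  have hb : (0 : ℤ) < 8 * K ^ 2 - 4 * K + 1 := by nlinarith
  have ha : (0 : ℤ) < 8 * K ^ 2 + 4 * K + 1 := by nlinarith
  have hx1 : 0 < x := by
    rw [hx] at hEpos
    exact (mul_pos_iff_of_pos_left (mul_pos ht hb)).1 hEpos
  have hy1 : 0 < y := by
    rw [hy] at hFpos
    exact (mul_pos_iff_of_pos_left (mul_pos ht ha)).1 hFpos
  -- the remaining characters
  set O := univ.filter (fun ψ : IrrCharacter G => ψ ≠ one G ∧ ψ ≠ St ∧ ψ ∉ D.R ∧ ψ ∉ E.R ∧ ψ ∉ F.R) with hO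
  have hsp := fun g : IrrCharacter G → ℤ => split hne o1 o2 o3 t1 t2 t3 dDE dDF dEF g
  have hw' : ∀ ψ ∈ O, ∃ w : ℤ, (charDegree (ψ : G → ℂ) : ℤ) = (8 * K ^ 2 - 1) * w := by
    intro ψ hψ
    obtain ⟨h1, h2, h3, -, -⟩ := (Finset.mem_filter.1 hψ).2
    exact hvT ψ h1 h2 h3
  choose! w hw using hw'
  have hsumsq : ∑ ψ : IrrCharacter G, (charDegree (ψ : G → ℂ) : ℤ) ^ 2 = Nat.card G := by
    exact_mod_cast H686.CharKit.sum_deg_sq (G := G)
  have hconst : ∀ {A : Subgroup G} {s e : ℕ} (D : CCData A s e) (g : IrrCharacter G → ℤ) (z : ℤ),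
      (∀ ψ ∈ D.R, g ψ = z) → ∑ ψ ∈ D.R, g ψ = s * z := by
    intro A s e D g z h
    rw [Finset.sum_congr rfl h, Finset.sum_const, D.hcard, nsmul_eq_mul]
  have hW : (sA : ℤ) * ((8 * K ^ 2 - 4 * K + 1) ^ 2 * x ^ 2) + sB * ((8 * K ^ 2 + 4 * K + 1) ^ 2 * y ^ 2) +
      ∑ ψ ∈ O, w ψ ^ 2 = sA * (8 * K ^ 2 - 4 * K + 1) ^ 2 + sB * (8 * K ^ 2 + 4 * K + 1) ^ 2 + 8 * K ^ 2 := by
    rw [hsp, hconst D _ ((D.d : ℤ) ^ 2) (fun ψ hψ => by rw [D.deg ψ hψ]),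
      hconst E _ ((E.d : ℤ) ^ 2) (fun ψ hψ => by rw [E.deg ψ hψ]),
      hconst F _ ((F.d : ℤ) ^ 2) (fun ψ hψ => by rw [F.deg ψ hψ]),
      Finset.sum_congr rfl (fun ψ hψ => by rw [hw ψ hψ, mul_pow]), ← Finset.mul_sum, deg_one, St1, hdD,
      hx, hy, hG, hsT] at hsumsq
    have ht2 : (8 * K ^ 2 - 1) ^ 2 ≠ 0 := pow_ne_zero 2 ht.ne'
    apply mul_left_cancel₀ ht2
    rw [hsA, hsB] at *
    push_cast at hsumsq
    linear_combination hsumsq
  have hOnn : 0 ≤ ∑ ψ ∈ O, w ψ ^ 2 := Finset.sum_nonneg fun _ _ => sq_nonneg _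
  have hbig1 : 8 * K ^ 2 < (sA : ℤ) * (8 * K ^ 2 - 4 * K + 1) ^ 2 := by
    have h1 : 4 * K ^ 2 ≤ 8 * K ^ 2 - 4 * K + 1 := ar1 hkz
    have h2 : (4 * K ^ 2) ^ 2 ≤ (8 * K ^ 2 - 4 * K + 1) ^ 2 := pow_le_pow_left₀ (by positivity) h1 2
    have h3 : (6 : ℤ) * (4 * K ^ 2) ^ 2 ≤ sA * (8 * K ^ 2 - 4 * K + 1) ^ 2 :=
      mul_le_mul hsA6 h2 (by positivity) (by positivity)
    exact lt_of_lt_of_le (ar2 hkz) h3
  have hbig2 : 8 * K ^ 2 < (sB : ℤ) * (8 * K ^ 2 + 4 * K + 1) ^ 2 := by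
    have h1 : 4 * K ^ 2 ≤ 8 * K ^ 2 + 4 * K + 1 := ar1' hkz
    have h2 : (4 * K ^ 2) ^ 2 ≤ (8 * K ^ 2 + 4 * K + 1) ^ 2 := pow_le_pow_left₀ (by positivity) h1 2
    have h3 : (6 : ℤ) * (4 * K ^ 2) ^ 2 ≤ sB * (8 * K ^ 2 + 4 * K + 1) ^ 2 :=
      mul_le_mul hsB6 h2 (by positivity) (by positivity)
    exact lt_of_lt_of_le (ar2 hkz) h3
  have hxx : 1 ≤ x ^ 2 := by clear * - hx1; nlinarith
  have hyy : 1 ≤ y ^ 2 := by clear * - hy1; nlinarith
  have hx' : x = 1 := by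
    by_contra h
    have h2 : 2 ≤ x := by omega
    have h3 : 4 ≤ x ^ 2 := by clear * - h2; nlinarith
    have hW2 := hW
    generalize ∑ ψ ∈ O, w ψ ^ 2 = S at hW2 hOnn
    clear * - hW2 hOnn h3 hyy hbig1 hbig2
    have h4 : 0 ≤ 8 * K ^ 2 := by positivity
    exact ar3 hbig1 hbig2 h4 h3 hyy hOnn (by linarith)
  have hy' : y = 1 := by
    by_contra h
    have h2 : 2 ≤ y := by omega
    have h3 : 4 ≤ y ^ 2 := by clear * - h2; nlinarith
    have hW2 := hW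
    generalize ∑ ψ ∈ O, w ψ ^ 2 = S at hW2 hOnn
    clear * - hW2 hOnn h3 hxx hbig1 hbig2
    have h4 : 0 ≤ 8 * K ^ 2 := by positivity
    exact ar3 hbig2 hbig1 h4 h3 hxx hOnn (by linarith)
  subst hx' hy'
  have hW' : ∑ ψ ∈ O, w ψ ^ 2 = 8 * K ^ 2 := by linarith
  -- the values on `A#`
  have hf2 : ∑ ψ ∈ O, E.f ψ ^ 2 = 2 := by
    rw [hsp, hconst D _ 0 (fun ψ hψ => by rw [fE0D ψ hψ]; ring),
      hconst E _ 0 (fun ψ hψ => by rw [E.hf0 ψ hψ]; ring),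
      hconst F _ 0 (fun ψ hψ => by rw [fE0F ψ hψ]; ring), p2, u2] at sqE
    linarith
  have hwf : ∑ ψ ∈ O, w ψ * E.f ψ = E.ε * (8 * K ^ 2 - 4 * K + 1) + 8 * K ^ 2 + 1 := by
    have h := E.sd
    rw [cE, hsp, hconst D _ 0 (fun ψ hψ => by rw [fE0D ψ hψ]; ring),
      hconst E _ 0 (fun ψ hψ => by rw [E.hf0 ψ hψ]; ring),
      hconst F _ 0 (fun ψ hψ => by rw [fE0F ψ hψ]; ring), p2, u2, deg_one, St1, hx,
      Finset.sum_congr rfl (fun ψ hψ => by rw [hw ψ hψ, mul_assoc]), ← Finset.mul_sum] at h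
    apply mul_left_cancel₀ ht.ne'
    push_cast at h
    linear_combination h
  have hCS := Finset.sum_mul_sq_le_sq_mul_sq O w E.f
  rw [hW', hf2, hwf] at hCS
  have hεE : E.ε = -1 := by
    rcases E.hε with h | h
    · exfalso
      rw [h] at hCS
      exact ar4 hkz hCS
    · exact h
  rw [hεE] at hwf
  have hwf0 : ∀ ψ ∈ O, w ψ = 2 * K * E.f ψ := by
    have h : ∑ ψ ∈ O, (w ψ - 2 * K * E.f ψ) ^ 2 = 0 := by
      have h1 : ∀ ψ ∈ O, (w ψ - 2 * K * E.f ψ) ^ 2 =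
          w ψ ^ 2 - 4 * K * (w ψ * E.f ψ) + 4 * K ^ 2 * E.f ψ ^ 2 := fun ψ _ => by ring
      rw [Finset.sum_congr rfl h1, Finset.sum_add_distrib, Finset.sum_sub_distrib, ← Finset.mul_sum,
        ← Finset.mul_sum, hW', hf2, hwf]
      ring
    intro ψ hψ
    have h1 := (Finset.sum_eq_zero_iff_of_nonneg (fun _ _ => sq_nonneg _)).1 h ψ hψ
    have h2 := pow_eq_zero_iff (two_ne_zero) |>.1 h1
    linarith
  have hwO : ∀ ψ ∈ O, w ψ = 2 * K := by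
    intro ψ hψ
    have h1 : 0 < w ψ := by
      have h2 : (0 : ℤ) < charDegree (ψ : G → ℂ) := by exact_mod_cast H686.CharKit.charDegree_pos ψ
      rw [hw ψ hψ] at h2
      exact (mul_pos_iff_of_pos_left ht).1 h2
    have h2 := hwf0 ψ hψ
    have h3 : 0 < E.f ψ := by
      rw [h2] at h1
      exact (mul_pos_iff_of_pos_left (by linarith : 0 < 2 * K)).1 h1
    have h4 : E.f ψ ^ 2 ≤ 2 := by
      rw [← hf2]
      exact Finset.single_le_sum (f := fun ψ => E.f ψ ^ 2) (fun _ _ => sq_nonneg _) hψ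
    have h5 : E.f ψ = 1 := ar5 h3 h4
    rw [h2, h5, mul_one]
  have hOne : O.Nonempty := by
    rw [Finset.nonempty_iff_ne_empty]
    intro h
    rw [h] at hf2
    simp at hf2
  intro d
  rw [hK]
  constructor
  · rintro ⟨ψ, rfl⟩
    by_cases h1 : ψ = one G
    · left; rw [h1, deg_one]; norm_num
    by_cases h2 : ψ = St
    · right; left; rw [h2, St1]
    by_cases h3 : ψ ∈ D.R
    · right; right; left; rw [D.deg ψ h3, hdD]
    by_cases h4 : ψ ∈ E.R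
    · right; right; right; right; left; rw [E.deg ψ h4, hx, mul_one]
    by_cases h5 : ψ ∈ F.R
    · right; right; right; left; rw [F.deg ψ h5, hy, mul_one]
    · have h6 : ψ ∈ O := Finset.mem_filter.2 ⟨Finset.mem_univ _, h1, h2, h3, h4, h5⟩
      right; right; right; right; right
      rw [hw ψ h6, hwO ψ h6]
  · rintro (h | h | h | h | h | h)
    · exact ⟨one G, by rw [deg_one]; exact_mod_cast h.symm⟩
    · exact ⟨St, by rw [← St1] at h; exact_mod_cast h.symm⟩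
    · exact ⟨ψD, by rw [← hdD] at h; rw [D.deg ψD hψD]; exact_mod_cast h.symm⟩
    · exact ⟨ψF, by rw [mul_one] at hy; rw [← hy] at h; rw [F.deg ψF hψF]; exact_mod_cast h.symm⟩
    · exact ⟨ψE, by rw [mul_one] at hx; rw [← hx] at h; rw [E.deg ψE hψE]; exact_mod_cast h.symm⟩
    · obtain ⟨ψ, hψ⟩ := hOne
      refine ⟨ψ, ?_⟩
      have h6 := hw ψ hψ
      rw [hwO ψ hψ, ← h] at h6
      exact_mod_cast h6

end Cfsg.Agent.H678.SuzChar
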