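import Cfsg.Agent.Characters.CCEstimates
import Cfsg.Agent.Characters.CCCounting
import Cfsg.Agent.H686.CharKit
set_option linter.all false

/-!
# Exact formulas for the exceptional characters of a CC-subgroup

`A` a subgroup of the finite group `G` which is the centralizer of each of its nonidentity elements, `X : Exc A`
its exceptional characters, at least two of them.

* `exists_data` : the multiplicities of the exceptional characters on `A`;
* `sum_sq` : `∑ (f ψ)² + s c² = len A + 2 ε c`, the sum over the nonexceptional characters;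
* `sum_deg` : `∑ ψ(1) f ψ + s d c = ε d`;
* `disjoint_rng` : the exceptional characters of two nonconjugate CC-subgroups are different.
-/

set_option autoImplicit false

open scoped ComplexConjugate
open Cfsg

namespace Cfsg.Agent.H678.CCExact

open Cfsg.Agent.Characters Cfsg.Agent.Characters.CCBasic Cfsg.Agent.Characters.CCOrbit
  Cfsg.Agent.Characters.CCInduce Cfsg.Agent.Characters.CCExceptional
  Cfsg.Agent.Characters.CCValues Cfsg.Agent.Characters.CCEstimates
  Cfsg.Agent.Characters.CCCounting Cfsg.Agent.CharactersDeep.NormalInd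

universe u

variable {G : Type u} [Group G] [Fintype G] {A : Subgroup G}

/-- All exceptional characters contain the principal character of `A` equally often. -/
theorem mult_one_eq (hA : IsCC A) [Fintype A] (X : Exc A) (l m : NP A) :
    mult (X.E l) (one A) = mult (X.E m) (one A) := by
  classical
  have : Fintype (Subgroup.normalizer (A : Set G)) := Fintype.ofFinite _
  have hη : ((l.1 : A → ℂ) - (m.1 : A → ℂ)) 1 = 0 := by
    rw [Pi.sub_apply, irr_apply_one_of_comm (comm_coe hA) l.1.2,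
      irr_apply_one_of_comm (comm_coe hA) m.1.2, sub_self]
  have h1 : (fun a : A => indFun A ((l.1 : A → ℂ) - (m.1 : A → ℂ)) (a : G)) =
      (Nat.card A : ℂ)⁻¹ • ∑ x : Subgroup.normalizer (A : Set G),
        cj A x ((l.1 : A → ℂ) - (m.1 : A → ℂ)) := by
    funext a
    rw [indFun_apply_mem hA hη a, Pi.smul_apply, Finset.sum_apply, smul_eq_mul]
  have h2 : classInner (fun a : A => indFun A ((l.1 : A → ℂ) - (m.1 : A → ℂ)) (a : G))
      (one A : A → ℂ) = 0 := by
    rw [h1, Core.classInner_smul_left, Core.classInner_sum_left, Finset.sum_eq_zero, mul_zero]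
    intro x _
    have hne : ∀ k : NP A, cj A x (k.1 : A → ℂ) ≠ (one A : A → ℂ) := by
      intro k h
      apply k.2
      apply cj_injective A x
      rw [h, coe_one, cj_const_one]
    rw [cj_sub, Core.classInner_sub_left, Core.classInner_irr_ne (isIrr_cj A x l.1.2) (one A).2 (hne l),
      Core.classInner_irr_ne (isIrr_cj A x m.1.2) (one A).2 (hne m), sub_zero]
  have h3 : (fun a : A => indFun A ((l.1 : A → ℂ) - (m.1 : A → ℂ)) (a : G)) =
      (X.ε : ℂ) • ((fun a : A => (X.E l : G → ℂ) a) - (fun a : A => (X.E m : G → ℂ) a)) := by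
    funext a
    rw [indFun_sub, X.ind]
    rfl
  rw [h3, Core.classInner_smul_left, Core.classInner_sub_left, mult_spec, mult_spec] at h2
  have hε : (X.ε : ℂ) ≠ 0 := by
    rcases X.hε with h | h <;> rw [h] <;> norm_num
  have h4 := (mul_eq_zero.1 h2).resolve_left hε
  have h5 : ((mult (X.E l) (one A) : ℤ) : ℂ) = ((mult (X.E m) (one A) : ℤ) : ℂ) := sub_eq_zero.1 h4
  exact_mod_cast h5

/-- All exceptional characters have the same degree. -/
theorem apply_one_eq (hA : IsCC A) (X : Exc A) (l m : NP A) :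
    (X.E l : G → ℂ) 1 = (X.E m : G → ℂ) 1 :=
  apply_eq_of_not_inConj hA X l m (one_not_inConj A)

theorem exists_not_rel' [Fintype (NP A)] (X : Exc A) (h2 : 2 ≤ (rng X).card) (l : NP A) :
    ∃ m : NP A, ¬ Rel A (l.1 : A → ℂ) (m.1 : A → ℂ) := by
  classical
  by_contra hno
  push Not at hno
  have h : rng X ⊆ {X.E l} := by
    intro ψ hψ
    obtain ⟨m, rfl⟩ := (mem_rng X ψ).1 hψ
    rw [Finset.mem_singleton]
    exact ((X.E_iff l m).2 (hno m)).symm
  have h3 := Finset.card_le_card h
  rw [Finset.card_singleton] at h3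
  omega

theorem eps_sq (X : Exc A) : X.ε * X.ε = 1 := by
  rcases X.hε with h | h <;> rw [h] <;> norm_num

open scoped Classical in
theorem sum_rel [Fintype (NP A)] (hA : IsCC A) (l₀ : NP A) :
    ∑ l : NP A, (if Rel A (l₀.1 : A → ℂ) (l.1 : A → ℂ) then (1 : ℤ) else 0) = len A := by
  rw [← card_np_rel hA l₀, Finset.card_filter]
  push_cast
  rfl

open scoped Classical in
/-- Sum of the multiplicities. -/
theorem sum_mult' [Fintype A] [Fintype (IrrCharacter A)] [Fintype (NP A)] (hA : IsCC A) (X : Exc A)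
    {l₀ : NP A} {b : ℤ} (hm : ∀ l : NP A, mult (X.E l₀) l.1 =
      b + X.ε * (if Rel A (l₀.1 : A → ℂ) (l.1 : A → ℂ) then 1 else 0)) :
    ∑ l : IrrCharacter A, mult (X.E l₀) l =
      mult (X.E l₀) (one A) + (Nat.card A - 1) * b + X.ε * len A := by
  have hcard : (Fintype.card (NP A) : ℤ) = Nat.card A - 1 := by
    have := card_np hA
    omega
  rw [sum_irr_eq, Finset.sum_congr rfl (fun l _ => hm l), Finset.sum_add_distrib,
    ← Finset.mul_sum, sum_rel hA, Finset.sum_const, Finset.card_univ, nsmul_eq_mul, hcard]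
  ring

open scoped Classical in
/-- **The multiplicities of the exceptional characters.** -/
theorem exists_data [Fintype A] [Fintype (NP A)] (hA : IsCC A) (X : Exc A)
    (h2 : 2 ≤ (rng X).card) : ∃ b c : ℤ, 0 ≤ b ∧ (∀ l : NP A, mult (X.E l) (one A) = b + c) ∧
      ∀ l m : NP A, mult (X.E l) m.1 =
        b + X.ε * (if Rel A (l.1 : A → ℂ) (m.1 : A → ℂ) then 1 else 0) := by
  have : Finite (IrrCharacter A) := Core.finite_irr
  have : Fintype (IrrCharacter A) := Fintype.ofFinite _
  have h3 : ∀ l : NP A, ∃ b : ℤ, 0 ≤ b ∧ ∀ m : NP A, mult (X.E l) m.1 =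
      b + X.ε * (if Rel A (l.1 : A → ℂ) (m.1 : A → ℂ) then 1 else 0) := by
    intro l
    obtain ⟨m₀, hm₀⟩ := exists_not_rel' X h2 l
    refine ⟨mult (X.E l) m₀.1, mult_nonneg _ _, fun m => ?_⟩
    have h := mult_sub hA X (X.E l) m m₀
    have h1 : ¬ (X.E l = X.E m₀) := fun h => hm₀ ((X.E_iff l m₀).1 h)
    rw [if_neg h1] at h
    simp only [X.E_iff l m] at h
    linarith
  choose b hb0 hb using h3
  obtain ⟨l₀⟩ := nonempty_np hA
  have hn1 : (0 : ℤ) < Nat.card A - 1 := by
    have h4 := card_rng_mul_len hA X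
    have h5 := len_pos A
    have h6 : 0 < (rng X).card * len A := Nat.mul_pos (by omega) h5
    omega
  have hbb : ∀ l, b l = b l₀ := by
    intro l
    have h4 := sum_mult' hA X (hb l)
    have h5 := sum_mult' hA X (hb l₀)
    have h6 := sum_mult hA (X.E l)
    have h7 := sum_mult hA (X.E l₀)
    rw [apply_one_eq hA X l l₀, h7, h4, h5, mult_one_eq hA X l l₀] at h6
    have h8 : mult (X.E l₀) (one A) + (Nat.card A - 1) * b l₀ + X.ε * len A =
      mult (X.E l₀) (one A) + (Nat.card A - 1) * b l + X.ε * len A := by exact_mod_cast h6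
    have h9 : ((Nat.card A : ℤ) - 1) * b l = ((Nat.card A : ℤ) - 1) * b l₀ := by linarith
    exact mul_left_cancel₀ hn1.ne' h9
  refine ⟨b l₀, mult (X.E l₀) (one A) - b l₀, hb0 l₀, fun l => ?_, fun l m => ?_⟩
  · rw [mult_one_eq hA X l l₀]; ring
  · rw [hb l m, hbb l]

section data

variable [Fintype A] [Fintype (NP A)] (hA : IsCC A) (X : Exc A) {b c : ℤ}

include hA

open scoped Classical in
/-- The degree of an exceptional character. -/
theorem degree_eq (h1 : ∀ l : NP A, mult (X.E l) (one A) = b + c)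
    (hm : ∀ l m : NP A, mult (X.E l) m.1 =
        b + X.ε * (if Rel A (l.1 : A → ℂ) (m.1 : A → ℂ) then 1 else 0)) (l : NP A) :
    (X.E l : G → ℂ) 1 = ((Nat.card A * b + c + X.ε * len A : ℤ) : ℂ) := by
  have : Finite (IrrCharacter A) := Core.finite_irr
  have : Fintype (IrrCharacter A) := Fintype.ofFinite _
  rw [sum_mult hA, sum_mult' hA X (hm l), h1]
  congr 1
  ring

open scoped Classical in
/-- The squared norm of an exceptional character on `A#`. -/
theorem q_exc (h1 : ∀ l : NP A, mult (X.E l) (one A) = b + c)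
    (hm : ∀ l m : NP A, mult (X.E l) m.1 =
        b + X.ε * (if Rel A (l.1 : A → ℂ) (m.1 : A → ℂ) then 1 else 0)) (l₀ : NP A) :
    q A (X.E l₀) = (((Nat.card A - 1) * c ^ 2 - 2 * c * X.ε * len A +
      len A * (Nat.card A - len A) : ℤ) : ℝ) := by
  have : Finite (IrrCharacter A) := Core.finite_irr
  have : Fintype (IrrCharacter A) := Fintype.ofFinite _
  have hcard : (Fintype.card (NP A) : ℤ) = Nat.card A - 1 := by
    have := card_np hA
    omega
  have hε2 := eps_sq X
  rw [q_eq hA, sum_mult' hA X (hm l₀), h1 l₀]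
  have hs2 : ∑ l : IrrCharacter A, mult (X.E l₀) l ^ 2 =
      (b + c) ^ 2 + (Nat.card A - 1) * b ^ 2 + (2 * b * X.ε + 1) * len A := by
    have h3 : ∀ l : NP A, mult (X.E l₀) l.1 ^ 2 = b ^ 2 +
        (2 * b * X.ε + 1) * (if Rel A (l₀.1 : A → ℂ) (l.1 : A → ℂ) then 1 else 0) := by
      intro l
      rw [hm l₀ l]
      split_ifs
      · linear_combination hε2
      · ring
    rw [sum_irr_eq, Finset.sum_congr rfl (fun l _ => h3 l), Finset.sum_add_distrib,
      ← Finset.mul_sum, sum_rel hA, Finset.sum_const, Finset.card_univ, nsmul_eq_mul, hcard, h1 l₀]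
    ring
  rw [hs2]
  congr 1
  linear_combination (-(len A : ℤ) ^ 2) * hε2

open scoped Classical in
/-- **First formula.** -/
theorem sum_sq (h1 : ∀ l : NP A, mult (X.E l) (one A) = b + c)
    (hm : ∀ l m : NP A, mult (X.E l) m.1 =
        b + X.ε * (if Rel A (l.1 : A → ℂ) (m.1 : A → ℂ) then 1 else 0))
    [Fintype (IrrCharacter G)] (hn : 1 < Nat.card A) (f : IrrCharacter G → ℤ)
    (hf : ∀ ψ : IrrCharacter G, ψ ∉ rng X → ∀ a : A, a ≠ 1 → (ψ : G → ℂ) a = f ψ) :
    ∑ ψ ∈ Finset.univ.filter (fun ψ : IrrCharacter G => ψ ∉ rng X), f ψ ^ 2 +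
      (rng X).card * c ^ 2 = len A + 2 * X.ε * c := by
  have hs := sum_q (G := G) hA
  have hsplit : ∑ ψ : IrrCharacter G, q A ψ = ∑ ψ ∈ rng X, q A ψ +
      ∑ ψ ∈ Finset.univ.filter (fun ψ : IrrCharacter G => ψ ∉ rng X), q A ψ := by
    rw [← Finset.sum_filter_add_sum_filter_not Finset.univ (fun ψ => ψ ∈ rng X)]
    congr 1
    refine Finset.sum_congr ?_ fun _ _ => rfl
    ext ψ
    simp
  have h3 : ∑ ψ ∈ rng X, q A ψ = (rng X).card * (((Nat.card A - 1) * c ^ 2 -
      2 * c * X.ε * len A + len A * (Nat.card A - len A) : ℤ) : ℝ) := by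
    rw [Finset.sum_congr rfl (g := fun _ => (((Nat.card A - 1) * c ^ 2 -
      2 * c * X.ε * len A + len A * (Nat.card A - len A) : ℤ) : ℝ))]
    · rw [Finset.sum_const, nsmul_eq_mul]
    · intro ψ hψ
      obtain ⟨l, rfl⟩ := (mem_rng X ψ).1 hψ
      exact q_exc hA X h1 hm l
  have h4 : ∑ ψ ∈ Finset.univ.filter (fun ψ : IrrCharacter G => ψ ∉ rng X), q A ψ =
      (Nat.card A - 1) * ((∑ ψ ∈ Finset.univ.filter (fun ψ : IrrCharacter G => ψ ∉ rng X),
        f ψ ^ 2 : ℤ) : ℝ) := by
    push_cast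
    rw [Finset.mul_sum]
    refine Finset.sum_congr rfl fun ψ hψ => ?_
    exact q_const (f ψ) (hf ψ (Finset.mem_filter.1 hψ).2)
  rw [hsplit, h3, h4] at hs
  have hw : ((rng X).card : ℤ) * len A = Nat.card A - 1 := by
    have h2 := card_rng_mul_len hA X
    have h5 : ((rng X).card : ℤ) * len A + 1 = Nat.card A := by exact_mod_cast h2
    linarith
  set S := ∑ ψ ∈ Finset.univ.filter (fun ψ : IrrCharacter G => ψ ∉ rng X), f ψ ^ 2 with hS
  have hs' : ((rng X).card : ℤ) * ((Nat.card A - 1) * c ^ 2 -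
      2 * c * X.ε * len A + len A * (Nat.card A - len A)) + (Nat.card A - 1) * S =
      (Nat.card A - 1) * Nat.card A := by exact_mod_cast hs
  have hn' : ((Nat.card A : ℤ) - 1) ≠ 0 := by
    have : (1 : ℤ) < Nat.card A := by exact_mod_cast hn
    linarith
  apply mul_left_cancel₀ hn'
  linear_combination hs' + (2 * c * X.ε - ((Nat.card A : ℤ) - len A)) * hw

open scoped Classical in
/-- **Second formula.** -/
theorem sum_deg (h1 : ∀ l : NP A, mult (X.E l) (one A) = b + c)
    (hm : ∀ l m : NP A, mult (X.E l) m.1 =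
        b + X.ε * (if Rel A (l.1 : A → ℂ) (m.1 : A → ℂ) then 1 else 0))
    [Fintype (IrrCharacter G)] (hn : 1 < Nat.card A) (f : IrrCharacter G → ℤ)
    (hf : ∀ ψ : IrrCharacter G, ψ ∉ rng X → ∀ a : A, a ≠ 1 → (ψ : G → ℂ) a = f ψ)
    (d : ℕ) (hd : ∀ ψ ∈ rng X, charDegree (ψ : G → ℂ) = d) :
    ∑ ψ ∈ Finset.univ.filter (fun ψ : IrrCharacter G => ψ ∉ rng X),
      (charDegree (ψ : G → ℂ) : ℤ) * f ψ + (rng X).card * d * c = X.ε * d := by
  have : Finite (IrrCharacter A) := Core.finite_irr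
  have : Fintype (IrrCharacter A) := Fintype.ofFinite _
  -- the sum over `A#` of a character
  have haug : ∀ ψ : IrrCharacter G, ∑ a ∈ Finset.univ.filter (fun a : A => a ≠ 1), (ψ : G → ℂ) a =
      (Nat.card A : ℂ) * mult ψ (one A) - (ψ : G → ℂ) 1 := by
    intro ψ
    have h3 := mult_spec ψ (one A)
    rw [Core.classInner_def] at h3
    have h4 : ∑ a : A, (ψ : G → ℂ) a = (Nat.card A : ℂ) * mult ψ (one A) := by
      have hn0 : (Nat.card A : ℂ) ≠ 0 := Core.card_ne_zero_complex
      rw [← h3, ← mul_assoc, mul_inv_cancel₀ hn0, one_mul]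
      refine Finset.sum_congr rfl fun a _ => ?_
      rw [coe_one]
      simp
    rw [← h4, ← Finset.add_sum_erase Finset.univ _ (Finset.mem_univ (1 : A)), Finset.filter_ne']
    simp
  have hcol : ∀ a : A, a ≠ 1 → ∑ ψ : IrrCharacter G, (ψ : G → ℂ) a * (charDegree (ψ : G → ℂ) : ℂ) = 0 := by
    intro a ha
    have ha1 : (a : G) ≠ 1 := fun h => ha (Subtype.ext h)
    have h := (Cfsg.Agent.S0145.result (a : G) 1).2 (fun hc => ha1 ((isConj_one_left).1 hc))
    rw [finsum_eq_sum_of_fintype] at h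
    rw [← h]
    refine Finset.sum_congr rfl fun ψ _ => ?_
    rw [← H686.CharKit.charDegree_irr ψ, Complex.conj_natCast]
  have htot : ∑ ψ : IrrCharacter G, (charDegree (ψ : G → ℂ) : ℂ) *
      ∑ a ∈ Finset.univ.filter (fun a : A => a ≠ 1), (ψ : G → ℂ) a = 0 := by
    simp_rw [Finset.mul_sum]
    rw [Finset.sum_comm]
    refine Finset.sum_eq_zero fun a ha => ?_
    rw [← hcol a (Finset.mem_filter.1 ha).2]
    exact Finset.sum_congr rfl fun ψ _ => mul_comm _ _
  rw [← Finset.sum_filter_add_sum_filter_not Finset.univ (fun ψ => ψ ∈ rng X)] at htot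
  have hnc : ∑ ψ ∈ Finset.univ.filter (fun ψ : IrrCharacter G => ψ ∉ rng X),
      (charDegree (ψ : G → ℂ) : ℂ) * ∑ a ∈ Finset.univ.filter (fun a : A => a ≠ 1), (ψ : G → ℂ) a =
      (Nat.card A - 1) * ((∑ ψ ∈ Finset.univ.filter (fun ψ : IrrCharacter G => ψ ∉ rng X),
      (charDegree (ψ : G → ℂ) : ℤ) * f ψ : ℤ) : ℂ) := by
    push_cast
    rw [Finset.mul_sum]
    refine Finset.sum_congr rfl fun ψ hψ => ?_
    rw [Finset.sum_congr rfl (fun a ha => hf ψ (Finset.mem_filter.1 hψ).2 a (Finset.mem_filter.1 ha).2),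
      Finset.sum_const, nsmul_eq_mul, Finset.filter_ne', Finset.card_erase_of_mem (Finset.mem_univ _),
      Finset.card_univ, Nat.card_eq_fintype_card, Nat.cast_sub Fintype.card_pos]
    push_cast
    ring
  have hex : ∑ ψ ∈ Finset.univ.filter (fun ψ : IrrCharacter G => ψ ∈ rng X),
      (charDegree (ψ : G → ℂ) : ℂ) * ∑ a ∈ Finset.univ.filter (fun a : A => a ≠ 1), (ψ : G → ℂ) a =
      (rng X).card * ((d : ℂ) * ((Nat.card A - 1) * c - X.ε * len A)) := by
    rw [Finset.sum_congr rfl (g := fun _ => (d : ℂ) * ((Nat.card A - 1) * c - X.ε * len A))]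
    · rw [Finset.sum_const, nsmul_eq_mul]
      congr 3
      ext ψ
      simp
    · intro ψ hψ
      have hψ' := (Finset.mem_filter.1 hψ).2
      rw [hd ψ hψ', haug]
      obtain ⟨l, rfl⟩ := (mem_rng X ψ).1 hψ'
      rw [degree_eq hA X h1 hm l, h1 l]
      push_cast
      ring
  rw [hnc, hex] at htot
  set S := ∑ ψ ∈ Finset.univ.filter (fun ψ : IrrCharacter G => ψ ∉ rng X),
      (charDegree (ψ : G → ℂ) : ℤ) * f ψ with hS
  have htot' : ((rng X).card : ℤ) * ((d : ℤ) * ((Nat.card A - 1) * c - X.ε * len A)) +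
      (Nat.card A - 1) * S = 0 := by exact_mod_cast htot
  have hw : ((rng X).card : ℤ) * len A = Nat.card A - 1 := by
    have h2 := card_rng_mul_len hA X
    have h5 : ((rng X).card : ℤ) * len A + 1 = Nat.card A := by exact_mod_cast h2
    linarith
  have hn' : ((Nat.card A : ℤ) - 1) ≠ 0 := by
    have : (1 : ℤ) < Nat.card A := by exact_mod_cast hn
    linarith
  apply mul_left_cancel₀ hn'
  linear_combination htot' + (X.ε * d) * hw

end data

/-- A character which is constant on `A#` is not exceptional (at least two exceptional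
characters). -/
theorem not_mem_rng_of_const [Fintype A] [Fintype (NP A)] (hA : IsCC A) (X : Exc A)
    (h2 : 2 ≤ (rng X).card) {ψ : IrrCharacter G} {z : ℂ} (h : ∀ a : A, a ≠ 1 → (ψ : G → ℂ) a = z) :
    ψ ∉ rng X := by
  classical
  intro hψ
  obtain ⟨l, rfl⟩ := (mem_rng X ψ).1 hψ
  obtain ⟨m, hlm⟩ := exists_not_rel' X h2 l
  -- a character constant on `A#` contains the nonprincipal characters equally often
  have hconst : ∀ k : NP A, (mult (X.E l) k.1 : ℂ) = (Nat.card A : ℂ)⁻¹ * ((X.E l : G → ℂ) 1 - z) := by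
    intro k
    rw [← mult_spec, Core.classInner_def]
    congr 1
    rw [← Finset.add_sum_erase Finset.univ _ (Finset.mem_univ (1 : A))]
    have h3 : ∑ a ∈ Finset.univ.erase (1 : A), (X.E l : G → ℂ) a * conj ((k.1 : A → ℂ) a) =
        z * ∑ a ∈ Finset.univ.erase (1 : A), conj ((k.1 : A → ℂ) a) := by
      rw [Finset.mul_sum]
      exact Finset.sum_congr rfl fun a ha => by rw [h a (Finset.ne_of_mem_erase ha)]
    have h4 : ∑ a : A, conj ((k.1 : A → ℂ) a) = 0 := by
      have h5 := Core.classInner_irr_ne Core.isIrr_one k.1.2 (Ne.symm k.2)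
      rw [Core.classInner_def] at h5
      have hn0 : (Nat.card A : ℂ)⁻¹ ≠ 0 := inv_ne_zero Core.card_ne_zero_complex
      have h6 := (mul_eq_zero.1 h5).resolve_left hn0
      simpa using h6
    rw [← Finset.add_sum_erase Finset.univ _ (Finset.mem_univ (1 : A))] at h4
    rw [h3]
    have h7 : (k.1 : A → ℂ) 1 = 1 := irr_apply_one_of_comm (comm_coe hA) k.1.2
    rw [h7, map_one] at h4 ⊢
    have h8 : ∑ a ∈ Finset.univ.erase (1 : A), conj ((k.1 : A → ℂ) a) = -1 := by
      linear_combination h4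
    rw [h8, Subgroup.coe_one]
    ring
  have h3 := mult_sub hA X (X.E l) l m
  rw [if_pos rfl, if_neg (fun h => hlm ((X.E_iff l m).1 h))] at h3
  have h4 : (mult (X.E l) l.1 : ℂ) = mult (X.E l) m.1 := by rw [hconst l, hconst m]
  have h5 : mult (X.E l) l.1 = mult (X.E l) m.1 := by exact_mod_cast h4
  rw [h5, sub_self] at h3
  rcases X.hε with h | h <;> rw [h] at h3 <;> norm_num at h3

/-- The exceptional characters of two CC-subgroups with no nonidentity elements conjugate are
different. -/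
theorem disjoint_rng {B : Subgroup G} [Fintype A] [Fintype B] [Fintype (NP A)] [Fintype (NP B)]
    (hA : IsCC A) (hB : IsCC B) (X : Exc A) (Y : Exc B) (hX : 2 ≤ (rng X).card)
    (hAB : ∀ x ∈ A, x ≠ 1 → ∀ y ∈ B, ¬ IsConj x y) {ψ : IrrCharacter G} (hψ : ψ ∈ rng X)
    (hY : 2 ≤ (rng Y).card) : ψ ∉ rng Y := by
  classical
  intro hψY
  obtain ⟨l, rfl⟩ := (mem_rng X ψ).1 hψ
  obtain ⟨m, hm⟩ := (mem_rng Y _).1 hψY
  obtain ⟨l', hl'⟩ := exists_not_rel' X hX l
  obtain ⟨m', hm'⟩ := exists_not_rel' Y hY m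
  -- `E l` and `E l'` agree on `B`
  have hagree : ∀ y : B, (X.E l : G → ℂ) y = (X.E l' : G → ℂ) y := by
    intro y
    apply apply_eq_of_not_inConj hA X l l'
    rintro ⟨x, hx, hx1, hxy⟩
    first
      | exact hAB x hx hx1 y y.2 hxy
      | exact hAB x hx1 hx y y.2 hxy
  have hmult : ∀ k : IrrCharacter B, mult (X.E l) k = mult (X.E l') k := by
    intro k
    have h1 : (mult (X.E l) k : ℂ) = mult (X.E l') k := by
      rw [← mult_spec, ← mult_spec]
      congr 1
      funext y
      exact hagree y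
    exact_mod_cast h1
  have h1 := mult_sub hB Y (X.E l) m m'
  have h2 := mult_sub hB Y (X.E l') m m'
  rw [hmult, hmult, h2, if_pos hm.symm, if_neg (fun h => hm' ((Y.E_iff m m').1 (hm.trans h)))] at h1
  have hε : Y.ε ≠ 0 := by
    rcases Y.hε with h | h <;> rw [h] <;> norm_num
  have h3 := mul_left_cancel₀ hε h1
  by_cases h4 : X.E l' = Y.E m
  · exact hl' ((X.E_iff l l').1 (hm.symm.trans h4.symm))
  · rw [if_neg h4] at h3
    split_ifs at h3 <;> norm_num at h3

end Cfsg.Agent.H678.CCExact
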